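import Cfsg.Agent.Lib.KnownA.TwistOut.Auts

/-!
The outer automorphism groups of ²E₆ and ³D₄.
-/

set_option autoImplicit false
set_option maxRecDepth 100000

namespace CfsgLib.KnownA.TwistOut

open Cfsg.Lie CfsgLib.Chev CfsgLib.KnownA.Chev CfsgLib.KnownA.ChevChar

variable {D : ChevalleyDatum} {F : Type*} [Field F] {g : Good D}

theorem phi_iterate {A : A1Setup g F} {q : ℕ} (hφ : ∀ t, A.φ t = t ^ q) (n : ℕ) (c : F) :
    (A.φ : F → F)^[n] c = c ^ q ^ n := by
  induction n with
  | zero => simp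
  | succ n ih => rw [Function.iterate_succ_apply', ih, hφ, ← pow_mul, ← pow_succ]

theorem top_of {A : A1Setup g F} (W : TwData A) [Fintype F] {q j : ℕ}
    (hφ : ∀ t, A.φ t = t ^ q) (hK : Fintype.card F = q ^ j) {o : Fin A.r} (ho : W.k o = j)
    (c : F) : c ∈ W.Kf o := by
  rw [W.mem_Kf, ho, phi_iterate hφ, ← hK, FiniteField.pow_card]

theorem card_fix [Fintype F] {A : A1Setup g F} {q j n : ℕ} (hq : 1 < q)
    (hφ : ∀ t, A.φ t = t ^ q) (hK : Fintype.card F = q ^ j) (hn : n = 1 ∨ n = j) :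
    Nat.card {c : F // (A.φ : F → F)^[n] c = c} = q ^ n := by
  simp only [phi_iterate hφ]
  rcases hn with rfl | rfl
  · simp only [pow_one]
    exact card_pow_eq_self hq hK
  · rw [← hK, ← Nat.card_eq_fintype_card]
    exact Nat.card_congr (Equiv.subtypeUnivEquiv fun c => by
      rw [Nat.card_eq_fintype_card, FiniteField.pow_card])

theorem wperm_val_refl (g : Good D) {dat : LieData} {sd : StructData} (hl : LieChecks D dat)
    (hs : StructChecks D dat sd) (m : List (Fin D.rank)) (a : Fin D.nroots) :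
    (g.wperm m a).val = reflWord sd (m.map Fin.val) a := by
  induction m with
  | nil => rfl
  | cons i m ih =>
    rw [g.wperm_cons, Equiv.Perm.mul_apply, g.rperm_val,
      (StructChecks.refl_facts hl hs i.2 (Fin.isLt _)).1, ih]
    rfl

/-- Two words of reflections commute, by the tables. -/
noncomputable def commOK (D : ChevalleyDatum) (sd : StructData) (l m : List ℕ) : Bool :=
  allR (fun a => Nat.beq (reflWord sd (l ++ m) a) (reflWord sd (m ++ l) a)) (upto D.nroots)

theorem commute_of_commOK (g : Good D) {dat : LieData} {sd : StructData} (hl : LieChecks D dat)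
    (hs : StructChecks D dat sd) {l m : List (Fin D.rank)}
    (h : commOK D sd (l.map Fin.val) (m.map Fin.val) = true) :
    g.wperm l * g.wperm m = g.wperm m * g.wperm l := by
  rw [← g.wperm_append, ← g.wperm_append]
  refine Equiv.ext fun a => Fin.ext ?_
  rw [wperm_val_refl g hl hs, wperm_val_refl g hl hs, List.map_append, List.map_append]
  have := allR_upto h a.2
  rwa [Nat.beq_eq] at this

theorem not_commute_of_commOK (g : Good D) {dat : LieData} {sd : StructData} (hl : LieChecks D dat)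
    (hs : StructChecks D dat sd) {l m : List (Fin D.rank)} (a : Fin D.nroots)
    (h : reflWord sd ((l ++ m).map Fin.val) a ≠ reflWord sd ((m ++ l).map Fin.val) a) :
    g.wperm l * g.wperm m ≠ g.wperm m * g.wperm l := by
  intro e
  rw [← g.wperm_append, ← g.wperm_append] at e
  refine h ?_
  rw [← wperm_val_refl g hl hs, ← wperm_val_refl g hl hs, e]

/-- The bases of the orbits of ²E₆. -/
def baseE6 : Fin 4 → Fin chevE6.rank :=
  ![⟨1, by decide⟩, ⟨3, by decide⟩, ⟨0, by decide⟩, ⟨2, by decide⟩]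

/-- The lengths of the orbits of ²E₆. -/
def lenE6 : Fin 4 → ℕ := ![1, 1, 2, 2]

theorem perm_E6 : ∀ π : Equiv.Perm (Fin 4), (∀ o, lenE6 (π o) = lenE6 o) →
    ¬ (π 0 = 1 ∧ π 2 = 3) → ¬ (π 0 = 1 ∧ π 3 = 3) → ¬ (π 1 = 1 ∧ π 2 = 3) → π = 1 := by
  decide +kernel

theorem card_out_E6 (K : Type*) [Field K] [Fintype K] {q : ℕ} (hq : IsPrimePow q)
    (hK : Fintype.card K = q ^ 2) :
    Nat.card (Cfsg.Out ↥(twistedE6 K q)) = Nat.gcd 3 (q + 1) * Nat.card (K ≃+* K) := by
  classical
  obtain ⟨A, hG, hφ, hS, hr, ho⟩ := exists_setupE6 K hq hK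
  have hc : HasComm chevE6 := hasComm_of_mem (by simp)
  have hsym := coSym_of_check A checksE6 structChecksE6 rhoE6_ok hS coSymE6_ok
  have hfac : ∀ o' : Fin 4, baseE6 o' ∈ orbE6 o' ∧
      (A.S.pi : Fin chevE6.rank → Fin chevE6.rank)^[lenE6 o'] (baseE6 o') = baseE6 o' ∧
      (∀ i ∈ orbE6 o', ∃ m < lenE6 o',
        (A.S.pi : Fin chevE6.rank → Fin chevE6.rank)^[m] (baseE6 o') = i) ∧
      ∀ m < lenE6 o', ∀ m' < lenE6 o',
        (A.S.pi : Fin chevE6.rank → Fin chevE6.rank)^[m] (baseE6 o') =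
          (A.S.pi : Fin chevE6.rank → Fin chevE6.rank)^[m'] (baseE6 o') → m = m' := by
    rw [hS]; decide +kernel
  have hlen : ∀ o' : Fin 4, lenE6 o' = 1 ∨ lenE6 o' = 2 := by decide +kernel
  let W : TwData A :=
    { b := fun o => baseE6 (Fin.cast hr o), k := fun o => lenE6 (Fin.cast hr o), q := q
      hc := hc
      hch := chainsOK_E6
      hb := fun o => by rw [ho]; exact (hfac _).1
      hk := fun o => by rcases hlen (Fin.cast hr o) with h | h <;> omega
      hper := fun o => (hfac _).2.1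
      hall := fun o j hj => (hfac _).2.2.1 j (by rw [← ho]; exact hj)
      hlt := fun o => (hfac _).2.2.2
      q_gt := hq.one_lt
      hcard := fun o => card_fix hq.one_lt hφ hK (hlen _)
      sym := hsym
      diag := A.diag_inf_eq_of_odd hc hsym (e := 3) ⟨1, rfl⟩ (fun c h => kerE6 (c := e6 c) h) }
  have hcartan : (∀ i ∈ orbE6 3, i ≠ baseE6 3 → chevE6.cartan i (chevE6.simple (baseE6 3)) = 0) ∧
      ∀ p : Fin 4 × Fin 4, p ∈ [((2 : Fin 4), (3 : Fin 4)), (1, 3), (0, 1)] →
        (∀ i ∈ orbE6 p.1, i ≠ baseE6 p.1 → chevE6.cartan i (chevE6.simple (baseE6 p.2)) = 0) ∧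
          chevE6.cartan (baseE6 p.1) (chevE6.simple (baseE6 p.2)) = -1 := by
    decide +kernel
  set e : Fin A.r ≃ Fin 4 := finCongr hr with he
  have hperm : ∀ θ π a b, FixUV A θ → W.TwMap θ π a b → π = 1 := by
    intro θ π a b hθ h
    have hk : ∀ o', lenE6 (e.permCongr π o') = lenE6 o' := fun o' => by
      have := h.k_eq (e.symm o')
      simpa [W, he, Equiv.permCongr_apply] using this
    have hnc : goodE6.wperm (orbE6 1) * goodE6.wperm (orbE6 3) ≠
        goodE6.wperm (orbE6 3) * goodE6.wperm (orbE6 1) := not_commute_of_commOK goodE6 checksE6 structChecksE6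
      (goodE6.sroot ⟨3, by decide⟩) (by decide +kernel)
    have key : ∀ u v : Fin 4,
        commOK chevE6 sdataE6 ((orbE6 u).map Fin.val) ((orbE6 v).map Fin.val) = true →
          ¬ (e.permCongr π u = 1 ∧ e.permCongr π v = 3) := by
      intro u v huv ⟨hu, hv⟩
      have hw := commute_of_commOK goodE6 checksE6 structChecksE6 huv
      have h1 := h.wperm_comm (o := e.symm u) (o' := e.symm v) (by rw [ho, ho]; exact hw) hθ
      rw [ho, ho] at h1
      rw [Equiv.permCongr_apply] at hu hv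
      exact hnc (by rw [← hu, ← hv]; exact h1)
    have h1 := perm_E6 _ hk (key 0 2 (by decide +kernel)) (key 0 3 (by decide +kernel))
      (key 1 2 (by decide +kernel))
    refine Equiv.ext fun o => e.injective ?_
    have := DFunLike.congr_fun h1 (e o)
    simpa [Equiv.permCongr_apply] using this
  have hlink : ∀ p ∈ [((2 : Fin 4), (3 : Fin 4)), (1, 3), (0, 1)],
      W.Link (e.symm p.1) (e.symm p.2) := fun p hp => by
    obtain ⟨h1, h2⟩ := hcartan.2 p hp
    exact ⟨fun i hi hne => h1 i (by rw [ho] at hi; exact hi) hne, h2⟩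
  have h := W.card_out hφ hperm (e.symm 3) (top_of W hφ hK rfl)
    (fun i hi hne => hcartan.1 i (by rw [ho] at hi; exact hi) hne) (fun P h3 hstep o => by
      have h2 := hstep _ _ (hlink (2, 3) (by simp)) h3
      have h1 := hstep _ _ (hlink (1, 3) (by simp)) h3
      have h0 := hstep _ _ (hlink (0, 1) (by simp)) h1
      obtain ⟨o', rfl⟩ := e.symm.surjective o
      fin_cases o'
      exacts [h0, h1, h2, h3])
  rw [hG] at h
  have hd := card_diagonal_twistedE6 K hq hK
  rw [← card_T0_E6 A hS hφ hq.one_lt hK] at hd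
  rw [← hd] at h
  have hpos : 0 < Nat.card ↥(chevE6.diagonalSubgroup K ⊓ twistedE6 K q) := Nat.card_pos
  refine Nat.eq_of_mul_eq_mul_right hpos (h.trans ?_)
  ring

/-- The bases of the orbits of ³D₄. -/
def baseD4 : Fin 2 → Fin chevD4.rank := ![⟨1, by decide⟩, ⟨0, by decide⟩]

/-- The lengths of the orbits of ³D₄. -/
def lenD4 : Fin 2 → ℕ := ![1, 3]

theorem card_out_D4 (K : Type*) [Field K] [Fintype K] {q : ℕ} (hq : IsPrimePow q)
    (hK : Fintype.card K = q ^ 3) :
    Nat.card (Cfsg.Out ↥(twistedD4 K q)) = Nat.card (K ≃+* K) := by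
  classical
  obtain ⟨A, hG, hφ, hS, hr, ho⟩ := exists_setupD4 K hq hK
  have hc : HasComm chevD4 := hasComm_of_mem (by simp)
  have hsym := coSym_of_check A checksD4 structChecksD4 rhoD4_ok hS coSymD4_ok
  have hfac : ∀ o' : Fin 2, baseD4 o' ∈ orbD4 o' ∧
      (A.S.pi : Fin chevD4.rank → Fin chevD4.rank)^[lenD4 o'] (baseD4 o') = baseD4 o' ∧
      (∀ i ∈ orbD4 o', ∃ m < lenD4 o',
        (A.S.pi : Fin chevD4.rank → Fin chevD4.rank)^[m] (baseD4 o') = i) ∧
      ∀ m < lenD4 o', ∀ m' < lenD4 o',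
        (A.S.pi : Fin chevD4.rank → Fin chevD4.rank)^[m] (baseD4 o') =
          (A.S.pi : Fin chevD4.rank → Fin chevD4.rank)^[m'] (baseD4 o') → m = m' := by
    rw [hS]; decide +kernel
  have hlen : ∀ o' : Fin 2, lenD4 o' = 1 ∨ lenD4 o' = 3 := by decide +kernel
  let W : TwData A :=
    { b := fun o => baseD4 (Fin.cast hr o), k := fun o => lenD4 (Fin.cast hr o), q := q
      hc := hc
      hch := chainsOK_D4
      hb := fun o => by rw [ho]; exact (hfac _).1
      hk := fun o => by rcases hlen (Fin.cast hr o) with h | h <;> omega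
      hper := fun o => (hfac _).2.1
      hall := fun o j hj => (hfac _).2.2.1 j (by rw [← ho]; exact hj)
      hlt := fun o => (hfac _).2.2.2
      q_gt := hq.one_lt
      hcard := fun o => card_fix hq.one_lt hφ hK (hlen _)
      sym := hsym
      diag := A.diag_inf_eq_of_free hc fun c h1 h2 => freeD4 A hS hφ h1 (A.σT_eq_iff.1 h2) }
  have hcartan : (∀ i ∈ orbD4 1, i ≠ baseD4 1 → chevD4.cartan i (chevD4.simple (baseD4 1)) = 0) ∧
      (∀ i ∈ orbD4 0, i ≠ baseD4 0 → chevD4.cartan i (chevD4.simple (baseD4 1)) = 0) ∧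
        chevD4.cartan (baseD4 0) (chevD4.simple (baseD4 1)) = -1 := by
    decide +kernel
  set e : Fin A.r ≃ Fin 2 := finCongr hr with he
  have hinj : Function.Injective lenD4 := by decide +kernel
  have hperm : ∀ θ π a b, FixUV A θ → W.TwMap θ π a b → π = 1 := fun θ π a b _ h =>
    Equiv.ext fun o => e.injective (hinj (h.k_eq o))
  have hlink : W.Link (e.symm 0) (e.symm 1) :=
    ⟨fun i hi hne => hcartan.2.1 i (by rw [ho] at hi; exact hi) hne, hcartan.2.2⟩
  have h := W.card_out hφ hperm (e.symm 1) (top_of W hφ hK rfl)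
    (fun i hi hne => hcartan.1 i (by rw [ho] at hi; exact hi) hne) (fun P h1 hstep o => by
      have h0 := hstep _ _ hlink h1
      obtain ⟨o', rfl⟩ := e.symm.surjective o
      fin_cases o'
      exacts [h0, h1])
  rw [hG] at h
  rw [card_diagonal_twistedD4 K hq hK, card_T0_D4 A hS hφ hq.one_lt hK,
    mul_comm _ (Nat.card (K ≃+* K))] at h
  refine Nat.eq_of_mul_eq_mul_right ?_ h
  rw [← card_diagonal_twistedD4 K hq hK]
  exact Nat.card_pos

end CfsgLib.KnownA.TwistOut
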