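import Cfsg.Agent.Lib.KnownA.TwistOut.Map
import Cfsg.Agent.Lib.KnownA.Chev.OutOrders
import Cfsg.Agent.Lib.Chev.TwistHOrders
import Cfsg.Prelude.Def_KGroupFacts

/-!
Diagonal and field automorphisms of a twisted group; the order of the outer automorphism group.
-/

set_option autoImplicit false

namespace CfsgLib.KnownA.TwistOut

open Cfsg.Lie CfsgLib.Chev CfsgLib.KnownA.Chev CfsgLib.KnownA.ChevChar

variable {D : ChevalleyDatum} {F : Type*} [Field F] {g : Good D}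

/-- The entrywise action of a field automorphism. -/
def fldGL (D : ChevalleyDatum) {F : Type*} [Field F] :
    (F ≃+* F) →* MulAut (GL D.Idx F) where
  toFun σ := Units.mapEquiv (σ.mapMatrix (m := D.Idx)).toMulEquiv
  map_one' := MulEquiv.ext fun _ => Units.ext (Matrix.ext fun _ _ => rfl)
  map_mul' _ _ := MulEquiv.ext fun _ => Units.ext (Matrix.ext fun _ _ => rfl)

theorem fldGL_xG (g : Good D) (σ : F ≃+* F) (r : ℕ) (t : F) :
    fldGL D σ (g.xG r t) = g.xG r (σ t) := by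
  refine Units.ext ?_
  show (D.x F r t).map σ = D.x F r (σ t)
  by_cases hr : r < D.nroots
  · rw [g.x_eq_xr hr, g.x_eq_xr hr]
    exact CfsgLib.Chev.xr_map σ.toRingHom r t
  · rw [CfsgLib.Chev.Good.x_out hr, CfsgLib.Chev.Good.x_out hr]
    exact Matrix.map_one _ (map_zero σ) (map_one σ)

/-- The diagonal matrix of fundamental values. -/
noncomputable def diagGL (g : Good D) : (Fin D.rank → Fˣ) →* GL D.Idx F where
  toFun c := diagG D (charOf g c)
  map_one' := Units.ext (by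
    show D.charDiag F (charOf g 1) = 1
    rw [show (charOf g (1 : Fin D.rank → Fˣ)) = fun _ => 1 from funext fun r => by simp [charOf],
      charDiag_one])
  map_mul' c d := by
    rw [diagG_mul]
    congr 1
    funext r
    simp [charOf, mul_zpow, Finset.prod_mul_distrib]

theorem map_xList (φ : MulAut (GL D.Idx F)) (e : Fin D.rank → Fin D.nroots)
    (k : Fin D.rank → F → F) (hk : ∀ i t, φ (g.xG (e i) t) = g.xG (e i) (k i t))
    (l : List (Fin D.rank)) (t : Fin D.rank → F) :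
    φ (g.xList e l t) = g.xList e l fun i => k i (t i) := by
  induction l with
  | nil => exact map_one φ
  | cons a l ih => rw [g.xList_cons, g.xList_cons, map_mul, ih, hk]

namespace TwData

variable {A : A1Setup g F} (W : TwData A)

include W in
theorem closure_xo_yo : Subgroup.closure ({x | ∃ o t, x = W.xo o t} ∪ {x | ∃ o t, x = W.yo o t}) =
    (⊤ : Subgroup ↥A.G1) := by
  set S := Subgroup.closure ({x | ∃ o t, x = W.xo o t} ∪ {x | ∃ o t, x = W.yo o t}) with hS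
  refine top_le_iff.1 fun x _ => ?_
  have hle : A.G1 ≤ S.map A.G1.subtype := by
    conv_lhs => rw [A.G1_def]
    rw [Subgroup.closure_le]
    rintro y ⟨o, t, ht, rfl | rfl⟩
    · obtain ⟨c, hc⟩ := W.compat_vec ht
      exact ⟨W.xo o c, Subgroup.subset_closure (Or.inl ⟨o, c, rfl⟩), (g.xList_congr hc).symm⟩
    · obtain ⟨c, hc⟩ := W.compat_vec ht
      exact ⟨W.yo o c, Subgroup.subset_closure (Or.inr ⟨o, c, rfl⟩), (g.xList_congr hc).symm⟩
  obtain ⟨y, hy, he⟩ := hle x.2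
  obtain rfl : y = x := Subtype.ext he
  exact hy

/-- An automorphism is determined by its map on the positive orbit groups. -/
theorem twMap_ext {θ θ' : MulAut ↥A.G1} {a b b' : ∀ o, W.Kf o → W.Kf o}
    (h : W.TwMap θ 1 a b) (h' : W.TwMap θ' 1 a b') : θ = θ' := by
  have hb : ∀ o c, b o c = b' o c := by
    intro o c
    by_cases hc : c = 0
    · subst hc
      exact (h.b_zero o).trans (h'.b_zero o).symm
    obtain ⟨t, rfl⟩ : ∃ t : (W.Kf o)ˣ, -((t⁻¹ : (W.Kf o)ˣ) : W.Kf o) = c :=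
      ⟨(-Units.mk0 c hc)⁻¹, by simp⟩
    exact (h.b_eq o t).trans (h'.b_eq o t).symm
  refine MulEquiv.toMonoidHom_injective
    (MonoidHom.eq_of_eqOn_dense W.closure_xo_yo fun x hx => ?_)
  rcases hx with ⟨o, t, rfl⟩ | ⟨o, t, rfl⟩
  · exact (h.pos o t).trans (h'.pos o t).symm
  · exact (h.neg o t).trans ((congrArg (W.yo o) (hb o t)).trans (h'.neg o t).symm)

theorem iterate_T0 {c : Fin D.rank → Fˣ} (hc : c ∈ A.T0) (m : ℕ) (i : Fin D.rank) :
    (c ((A.S.pi : Fin D.rank → Fin D.rank)^[m] i) : F) = (A.φ : F → F)^[m] (c i) := by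
  induction m with
  | zero => rfl
  | succ m ih => rw [Function.iterate_succ_apply', Function.iterate_succ_apply', A.mem_T0.1 hc, ih]

theorem T0_ext {c d : Fin D.rank → Fˣ} (hc : c ∈ A.T0) (hd : d ∈ A.T0)
    (h : ∀ o, c (W.b o) = d (W.b o)) : c = d := by
  funext i
  obtain ⟨o, ho⟩ := A.cover i
  obtain ⟨m, -, rfl⟩ := W.hall o i ho
  refine Units.ext ?_
  rw [iterate_T0 hc, iterate_T0 hd, h]

/-- The image of an element under an automorphism of the ambient group scaling root elements. -/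
theorem exists_pos_image (φ : MulAut (GL D.Idx F)) (k : Fin D.rank → F → F)
    (hk : ∀ i t, φ (g.xG (g.sroot i) t) = g.xG (g.sroot i) (k i t))
    (θ : MulAut ↥A.G1) (hθ : ∀ x, (θ x : GL D.Idx F) = φ x) (o : Fin A.r) (t : W.Kf o) :
    ∃ u : W.Kf o, (u : F) = k (W.b o) t ∧ θ (W.xo o t) = W.xo o u := by
  have h1 : (θ (W.xo o t) : GL D.Idx F) =
      g.xList g.sroot (A.orb o) fun i => k i (W.vec o (t : F) i) := by
    rw [hθ, coe_xo]
    exact map_xList φ _ k hk _ _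
  obtain ⟨u, hu⟩ := W.exists_xo o h1
  refine ⟨u, ?_, hu⟩
  rw [hu, coe_xo] at h1
  have h := g.xList_inj W.hc (A.isOrbit o).sorted h1 (W.b o) (W.hb o)
  rwa [vec_base, vec_base] at h

theorem exists_neg_image (φ : MulAut (GL D.Idx F)) (k : Fin D.rank → F → F)
    (hk : ∀ i t, φ (g.xG (nsroot g i) t) = g.xG (nsroot g i) (k i t))
    (θ : MulAut ↥A.G1) (hθ : ∀ x, (θ x : GL D.Idx F) = φ x) (o : Fin A.r) (t : W.Kf o) :
    ∃ u : W.Kf o, θ (W.yo o t) = W.yo o u := by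
  refine W.exists_yo o (t := fun i => k i (W.vec o (t : F) i)) ?_
  rw [hθ, coe_yo]
  exact map_xList φ _ k hk _ _

theorem exists_twMap_of (φ : MulAut (GL D.Idx F)) (k k' : Fin D.rank → F → F)
    (hk : ∀ i t, φ (g.xG (g.sroot i) t) = g.xG (g.sroot i) (k i t))
    (hk' : ∀ i t, φ (g.xG (nsroot g i) t) = g.xG (nsroot g i) (k' i t))
    (θ : MulAut ↥A.G1) (hθ : ∀ x, (θ x : GL D.Idx F) = φ x) :
    ∃ a b, W.TwMap θ 1 a b ∧ ∀ o t, (a o t : F) = k (W.b o) t := by
  choose a ha1 ha2 using W.exists_pos_image φ k hk θ hθ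
  choose b hb using W.exists_neg_image φ k' hk' θ hθ
  exact ⟨a, b, ⟨ha2, hb⟩, ha1⟩

section Restrict

variable [Finite F]

/-- Restriction of an automorphism of the ambient group. -/
noncomputable def restr (φ : MulAut (GL D.Idx F)) (h : ∀ x ∈ A.G1, φ x ∈ A.G1) : MulAut ↥A.G1 :=
  MulEquiv.ofBijective ((φ.toMonoidHom.comp A.G1.subtype).codRestrict A.G1 fun x => h x x.2)
    ((Finite.injective_iff_bijective (α := ↥A.G1)).1 fun _ _ e =>
      Subtype.ext (φ.injective (congrArg Subtype.val e)))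

theorem coe_restr (φ : MulAut (GL D.Idx F)) (h : ∀ x ∈ A.G1, φ x ∈ A.G1) (x : ↥A.G1) :
    (restr φ h x : GL D.Idx F) = φ x := rfl

theorem map_G1 (φ : MulAut (GL D.Idx F)) (k k' : Fin D.rank → F → F)
    (hk : ∀ i t, φ (g.xG (g.sroot i) t) = g.xG (g.sroot i) (k i t))
    (hk' : ∀ i t, φ (g.xG (nsroot g i) t) = g.xG (nsroot g i) (k' i t))
    (hkc : ∀ i s, k (A.S.pi i) (A.φ s) = A.φ (k i s))
    (hkc' : ∀ i s, k' (A.S.pi i) (A.φ s) = A.φ (k' i s)) :
    ∀ x ∈ A.G1, φ x ∈ A.G1 := by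
  suffices A.G1 ≤ A.G1.comap φ.toMonoidHom from fun x hx => this hx
  conv_lhs => rw [A.G1_def]
  rw [Subgroup.closure_le]
  rintro x ⟨o, t, ht, rfl | rfl⟩
  · show φ _ ∈ A.G1
    rw [map_xList φ _ k hk]
    exact (A.gen_mem fun i hi => by rw [ht i hi, hkc]).1
  · show φ _ ∈ A.G1
    rw [map_xList φ (fun i => g.nroot (g.sroot i)) k' hk']
    exact (A.gen_mem fun i hi => by rw [ht i hi, hkc']).2

end Restrict

theorem mem_posU (φ : MulAut (GL D.Idx F))
    (h : ∀ (r : Fin D.nroots) t, ∃ u, φ (g.xG r t) = g.xG r u) {x : GL D.Idx F}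
    (hx : x ∈ D.posUnipotent F) : φ x ∈ D.posUnipotent F := by
  suffices D.posUnipotent F ≤ (D.posUnipotent F).comap φ.toMonoidHom from this hx
  conv_lhs => rw [g.posUnipotent_eq]
  refine g.rootGen_le fun r hr hrn t => ?_
  obtain ⟨u, hu⟩ := h ⟨r, hrn⟩ t
  show φ (g.xG r t) ∈ D.posUnipotent F
  rw [hu, g.posUnipotent_eq]
  exact g.mem_rootGen hrn hr _

theorem mem_negU (φ : MulAut (GL D.Idx F))
    (h : ∀ (r : Fin D.nroots) t, ∃ u, φ (g.xG r t) = g.xG r u) {x : GL D.Idx F}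
    (hx : x ∈ D.negUnipotent F) : φ x ∈ D.negUnipotent F := by
  suffices D.negUnipotent F ≤ (D.negUnipotent F).comap φ.toMonoidHom from this hx
  conv_lhs => rw [g.negUnipotent_eq]
  refine g.rootGen_le fun r hr hrn t => ?_
  obtain ⟨u, hu⟩ := h ⟨r, hrn⟩ t
  show φ (g.xG r t) ∈ D.negUnipotent F
  rw [hu, g.negUnipotent_eq]
  exact g.mem_rootGen hrn hr _

theorem fixUV_of {G : Type*} [Group G] (f : G →* MulAut ↥A.G1) (φ : G → MulAut (GL D.Idx F))
    (hf : ∀ c x, (f c x : GL D.Idx F) = φ c x)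
    (h : ∀ c (r : Fin D.nroots) t, ∃ u, φ c (g.xG r t) = g.xG r u) (c : G) : FixUV A (f c) := by
  have hinv : ∀ x, f c⁻¹ (f c x) = x := fun x => by
    rw [← MulAut.mul_apply, ← map_mul, inv_mul_cancel, map_one, MulAut.one_apply]
  refine ⟨fun x => ⟨fun hx => ?_, fun hx => ?_⟩, fun x => ⟨fun hx => ?_, fun hx => ?_⟩⟩
  · have h1 : (f c⁻¹ (f c x) : GL D.Idx F) ∈ D.posUnipotent F := by
      rw [hf]; exact mem_posU _ (h _) hx
    rwa [hinv] at h1
  · show (f c x : GL D.Idx F) ∈ D.posUnipotent F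
    rw [hf]; exact mem_posU _ (h _) hx
  · have h1 : (f c⁻¹ (f c x) : GL D.Idx F) ∈ D.negUnipotent F := by
      rw [hf]; exact mem_negU _ (h _) hx
    rwa [hinv] at h1
  · show (f c x : GL D.Idx F) ∈ D.negUnipotent F
    rw [hf]; exact mem_negU _ (h _) hx

theorem diag_conj_xG (hch : chainsOK D = true) (hc : HasComm D) (c : Fin D.rank → Fˣ)
    (r : Fin D.nroots) (t : F) :
    MulAut.conj (diagGL g c) (g.xG r t) = g.xG r ((charOf g c r : F) * t) :=
  diagG_conj_xG g hch (isRootCharacter_charOf g hc c) r.2 t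

variable [Finite F]

include W in
theorem diag_mem_G1 {c : Fin D.rank → Fˣ} (hc : c ∈ A.T0) :
    ∀ x ∈ A.G1, MulAut.conj (diagGL g c) x ∈ A.G1 := by
  refine map_G1 _ (fun i t => (c i : F) * t) (fun i t => ((c i : F))⁻¹ * t) (fun i t => ?_)
    (fun i t => ?_) (fun i s => ?_) (fun i s => ?_)
  · rw [diag_conj_xG W.hch W.hc, charOf_sroot]
  · rw [diag_conj_xG W.hch W.hc, nsroot, charOf_neg, Units.val_inv_eq_inv_val]
  · rw [A.mem_T0.1 hc, map_mul]
  · rw [A.mem_T0.1 hc, map_mul, map_inv₀]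

/-- The diagonal automorphisms. -/
noncomputable def diagT : ↥A.T0 →* MulAut ↥A.G1 where
  toFun c := restr (MulAut.conj (diagGL g (c : Fin D.rank → Fˣ))) (W.diag_mem_G1 c.2)
  map_one' := MulEquiv.ext fun x => Subtype.ext (by
    rw [coe_restr, OneMemClass.coe_one, map_one, map_one, MulAut.one_apply, MulAut.one_apply])
  map_mul' c d := MulEquiv.ext fun x => Subtype.ext (by
    rw [coe_restr, Subgroup.coe_mul, map_mul, map_mul, MulAut.mul_apply, MulAut.mul_apply,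
      coe_restr, coe_restr])

theorem diagT_twMap (c : ↥A.T0) :
    ∃ a b, W.TwMap (W.diagT c) 1 a b ∧
      ∀ o t, (a o t : F) = ((c : Fin D.rank → Fˣ) (W.b o) : F) * t := by
  refine W.exists_twMap_of (MulAut.conj (diagGL g (c : Fin D.rank → Fˣ)))
    (fun i t => ((c : Fin D.rank → Fˣ) i : F) * t)
    (fun i t => (((c : Fin D.rank → Fˣ) i : F))⁻¹ * t) (fun i t => ?_) (fun i t => ?_) _
    (fun x => rfl)
  · rw [diag_conj_xG W.hch W.hc, charOf_sroot]
  · rw [diag_conj_xG W.hch W.hc, nsroot, charOf_neg, Units.val_inv_eq_inv_val]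

theorem diagT_fixUV (c : ↥A.T0) : FixUV A (W.diagT c) :=
  fixUV_of W.diagT (fun d => MulAut.conj (diagGL g (d : Fin D.rank → Fˣ))) (fun _ _ => rfl)
    (fun _ r t => ⟨_, diag_conj_xG W.hch W.hc _ r t⟩) c

theorem diagT_injective : Function.Injective W.diagT := by
  intro c d h
  refine Subtype.ext (W.T0_ext c.2 d.2 fun o => ?_)
  obtain ⟨a, b, ha, hac⟩ := W.diagT_twMap c
  obtain ⟨a', b', ha', hac'⟩ := W.diagT_twMap d
  have h1 := ha.pos o 1
  rw [h, ha'.pos] at h1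
  have h2 := congrArg Subtype.val (W.xo_injective _ h1)
  have h3 : (a' o 1 : F) = (a o 1 : F) := h2
  rw [hac, hac'] at h3
  exact Units.ext ((mul_right_cancel₀ (show ((1 : W.Kf o) : F) ≠ 0 from one_ne_zero) h3).symm)

/-- A conjugation by an element of `H¹` is diagonal. -/
theorem exists_diagT_of_H1 {x : ↥A.G1} (hx : x ∈ H1 A) : ∃ c, W.diagT c = MulAut.conj x := by
  have hx' : (x : GL D.Idx F) ∈ D.diagonalSubgroup F := hx
  rw [g.diagonal_eq_range] at hx'
  obtain ⟨d, hd⟩ := hx'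
  set χ : Fin D.rank → Fˣ := fun i => ∏ j : Fin D.rank, d j ^ D.cartan j (g.sroot i) with hχ
  have hk : ∀ i t, MulAut.conj (x : GL D.Idx F) (g.xG (g.sroot i) t) =
      g.xG (g.sroot i) ((χ i : F) * t) := fun i t => by
    rw [← hd, MulAut.conj_apply]
    exact g.torHom_conj_xG d (g.sroot i).2 t
  have hk' : ∀ i t, MulAut.conj (x : GL D.Idx F) (g.xG (nsroot g i) t) =
      g.xG (nsroot g i)
        (((∏ j : Fin D.rank, d j ^ D.cartan j (nsroot g i) : Fˣ) : F) * t) := fun i t => by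
    rw [← hd, MulAut.conj_apply]
    exact g.torHom_conj_xG d (nsroot g i).2 t
  obtain ⟨a, b, hab, hac⟩ := W.exists_twMap_of (MulAut.conj (x : GL D.Idx F)) _ _ hk hk'
    (MulAut.conj x) (fun y => rfl)
  have hχT : χ ∈ A.T0 := by
    rw [A.mem_T0]
    intro i
    obtain ⟨o, ho⟩ := A.cover i
    have h1 : ((MulAut.conj x (W.xo o 1) : ↥A.G1) : GL D.Idx F) =
        g.xList g.sroot (A.orb o) fun j => (χ j : F) * W.vec o ((1 : W.Kf o) : F) j := by
      show MulAut.conj (x : GL D.Idx F) (W.xo o 1 : GL D.Idx F) = _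
      rw [coe_xo]
      exact map_xList _ _ _ hk _ _
    rw [hab.pos, coe_xo] at h1
    have h2 := g.xList_inj W.hc (A.isOrbit o).sorted h1
    have e1 : ∀ j, W.vec o ((1 : W.Kf o) : F) j = 1 := fun j => W.vec_one o j
    have h3 := h2 i ho
    have h4 := h2 _ ((A.isOrbit o).pi_mem i ho)
    rw [e1, mul_one] at h3 h4
    rw [← h3, ← h4]
    exact W.vec_compat o (a o 1).2 ho
  obtain ⟨a', b', hab', hac'⟩ := W.diagT_twMap ⟨χ, hχT⟩
  have haa : a' = a := funext fun o => funext fun t => Subtype.ext ((hac' o t).trans (hac o t).symm)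
  subst haa
  exact ⟨⟨χ, hχT⟩, W.twMap_ext hab' hab⟩

include W in
theorem eq_one_of_conj {x : ↥A.G1} (hx : x ∈ H1 A) (h : MulAut.conj x = 1) : x = 1 := by
  have hx' : (x : GL D.Idx F) ∈ D.diagonalSubgroup F := hx
  rw [g.diagonal_eq_range] at hx'
  obtain ⟨d, hd⟩ := hx'
  refine Subtype.ext ?_
  rw [← hd]
  show torHom D F d = 1
  rw [g.torHom_eq_one_iff]
  funext i
  obtain ⟨o, ho⟩ := A.cover i
  have h1 := congrArg Subtype.val (DFunLike.congr_fun h (W.xo o 1))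
  rw [MulAut.one_apply] at h1
  have h2 : MulAut.conj (x : GL D.Idx F) (W.xo o 1 : GL D.Idx F) = (W.xo o 1 : GL D.Idx F) := h1
  rw [coe_xo, map_xList _ _ (fun i t => ((∏ j : Fin D.rank, d j ^ D.cartan j (g.sroot i) : Fˣ) : F)
    * t) (fun i t => by rw [← hd, MulAut.conj_apply]; exact g.torHom_conj_xG d (g.sroot i).2 t)]
    at h2
  have h3 := g.xList_inj W.hc (A.isOrbit o).sorted h2 i ho
  rw [show W.vec o ((1 : W.Kf o) : F) i = 1 from W.vec_one o i, mul_one] at h3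
  rw [powMap_apply]
  exact Units.ext h3

variable {qq : ℕ} (hφ : ∀ t, A.φ t = t ^ qq)
include hφ

theorem fld_mem_G1 (σ : F ≃+* F) : ∀ x ∈ A.G1, fldGL D σ x ∈ A.G1 :=
  map_G1 _ (fun _ => σ) (fun _ => σ) (fun i t => fldGL_xG g σ _ t) (fun i t => fldGL_xG g σ _ t)
    (fun _ s => by rw [hφ, hφ, map_pow]) (fun _ s => by rw [hφ, hφ, map_pow])

omit hφ in
/-- The field automorphisms. -/
noncomputable def fldT (hφ : ∀ t, A.φ t = t ^ qq) : (F ≃+* F) →* MulAut ↥A.G1 where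
  toFun σ := restr (fldGL D σ) (fld_mem_G1 hφ σ)
  map_one' := MulEquiv.ext fun x => Subtype.ext (by
    rw [coe_restr, map_one, MulAut.one_apply, MulAut.one_apply])
  map_mul' c d := MulEquiv.ext fun x => Subtype.ext (by
    rw [coe_restr, map_mul, MulAut.mul_apply, MulAut.mul_apply, coe_restr, coe_restr])

theorem fldT_twMap (σ : F ≃+* F) :
    ∃ a b, W.TwMap (fldT hφ σ) 1 a b ∧ ∀ o t, (a o t : F) = σ t :=
  W.exists_twMap_of (fldGL D σ) (fun _ => σ) (fun _ => σ) (fun i t => fldGL_xG g σ _ t)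
    (fun i t => fldGL_xG g σ _ t) _ (fun x => rfl)

theorem fldT_fixUV (σ : F ≃+* F) : FixUV A (fldT hφ σ) :=
  fixUV_of (fldT hφ) (fun τ => fldGL D τ) (fun _ _ => rfl)
    (fun _ r t => ⟨_, fldGL_xG g _ _ t⟩) σ

/-- Diagonal automorphisms are not field automorphisms. -/
theorem diag_fld (o₀ : Fin A.r) (htop : ∀ c : F, c ∈ W.Kf o₀) {c : ↥A.T0} {σ : F ≃+* F}
    (h : fldT hφ σ = W.diagT c) : σ = 1 := by
  obtain ⟨a, b, ha, hac⟩ := W.diagT_twMap c
  obtain ⟨a', b', ha', hac'⟩ := W.fldT_twMap hφ σ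
  have key : ∀ t : F, σ t = ((c : Fin D.rank → Fˣ) (W.b o₀) : F) * t := by
    intro t
    have h1 := ha'.pos o₀ ⟨t, htop t⟩
    rw [h, ha.pos] at h1
    have h2 : (a o₀ ⟨t, htop t⟩ : F) = (a' o₀ ⟨t, htop t⟩ : F) :=
      congrArg Subtype.val (W.xo_injective _ h1)
    rw [hac, hac'] at h2
    exact h2.symm
  have h1 := key 1
  rw [map_one, mul_one] at h1
  refine RingEquiv.ext fun t => ?_
  rw [key, ← h1, one_mul]
  rfl

/-- Every automorphism fixing `U¹` and `V¹` is diagonal times field. -/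
theorem exists_decomp
    (hperm : ∀ θ π a b, FixUV A θ → W.TwMap θ π a b → π = 1)
    (o₀ : Fin A.r) (htop : ∀ c : F, c ∈ W.Kf o₀)
    (hz : ∀ i ∈ A.orb o₀, i ≠ W.b o₀ → D.cartan i (g.sroot (W.b o₀)) = 0)
    (hchain : ∀ P : Fin A.r → Prop, P o₀ → (∀ o o', W.Link o o' → P o' → P o) → ∀ o, P o)
    {θ : MulAut ↥A.G1} (hθ : FixUV A θ) : ∃ c σ, θ = W.diagT c * fldT hφ σ := by
  obtain ⟨π, a, b, hab⟩ := W.exists_twMap hθ
  obtain rfl := hperm θ π a b hθ hab
  have hex : ∀ i : Fin D.rank, ∃ u : Fˣ, ∀ o, i ∈ A.orb o → (u : F) = W.vec o (a o 1 : F) i := by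
    intro i
    obtain ⟨o, ho⟩ := A.cover i
    obtain ⟨m, hm, e⟩ := W.hall o i ho
    refine ⟨Units.mk0 (W.vec o (a o 1 : F) i) ?_, fun o' ho' => ?_⟩
    · rw [← e, W.vec_iter o _ hm, ← RingHom.coe_pow]
      refine (map_ne_zero _).2 fun h0 => ?_
      exact hab.a_ne_zero o one_ne_zero (Subtype.ext h0)
    · obtain rfl := A.disjoint o' o i ho' ho
      rfl
  choose c hc using hex
  have hcT : c ∈ A.T0 := A.mem_T0.2 fun i => by
    obtain ⟨o, ho⟩ := A.cover i
    rw [hc i o ho, hc _ o ((A.isOrbit o).pi_mem i ho)]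
    exact W.vec_compat o (a o 1).2 ho
  obtain ⟨a1, b1, hd, hdc⟩ := W.diagT_twMap (⟨c, hcT⟩⁻¹)
  set θ' : MulAut ↥A.G1 := W.diagT (⟨c, hcT⟩⁻¹) * θ with hθ'
  have h' : W.TwMap θ' 1 (fun o t => a1 o (a o t)) (fun o t => b1 o (b o t)) :=
    ⟨fun o t => by
      show W.diagT _ (θ (W.xo o t)) = _
      rw [hab.pos]; exact hd.pos o _,
    fun o t => by
      show W.diagT _ (θ (W.yo o t)) = _
      rw [hab.neg]; exact hd.neg o _⟩
  have h1 : ∀ o, a1 o (a o 1) = 1 := fun o => Subtype.ext (by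
    rw [hdc o (a o 1)]
    show (((c (W.b o))⁻¹ : Fˣ) : F) * (a o 1 : F) = 1
    rw [Units.val_inv_eq_inv_val, hc _ o (W.hb o), vec_base]
    exact inv_mul_cancel₀ fun h0 => hab.a_ne_zero o one_ne_zero (Subtype.ext h0))
  obtain ⟨σ, hσ⟩ := W.exists_sigma o₀ htop hz h' h1
  have hall : ∀ o, ∀ t, (a1 o (a o t) : F) = σ t :=
    hchain (fun o => ∀ t, (a1 o (a o t) : F) = σ t) hσ fun o o' hl hp t => W.agree hl h' h1 hp t
  obtain ⟨a2, b2, hf, hfc⟩ := W.fldT_twMap hφ σ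
  have haa : a2 = fun o t => a1 o (a o t) :=
    funext fun o => funext fun t => Subtype.ext ((hfc o t).trans (hall o t).symm)
  subst haa
  refine ⟨⟨c, hcT⟩, σ, ?_⟩
  rw [W.twMap_ext hf h', hθ', map_inv, mul_inv_cancel_left]

/-- The order of the outer automorphism group. -/
theorem card_out
    (hperm : ∀ θ π a b, FixUV A θ → W.TwMap θ π a b → π = 1)
    (o₀ : Fin A.r) (htop : ∀ c : F, c ∈ W.Kf o₀)
    (hz : ∀ i ∈ A.orb o₀, i ≠ W.b o₀ → D.cartan i (g.sroot (W.b o₀)) = 0)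
    (hchain : ∀ P : Fin A.r → Prop, P o₀ → (∀ o o', W.Link o o' → P o' → P o) → ∀ o, P o) :
    Nat.card (Cfsg.Out ↥A.G1) * Nat.card ↥(D.diagonalSubgroup F ⊓ A.G1) =
      Nat.card A.T0 * Nat.card (F ≃+* F) := by
  haveI : Finite ↥A.G1 :=
    Finite.of_injective (fun y : ↥A.G1 => (y : GL D.Idx F)) Subtype.val_injective
  let mk : MulAut ↥A.G1 →* Cfsg.Out ↥A.G1 := QuotientGroup.mk' (Cfsg.Inn _)
  let iT : ↥A.T0 →* Cfsg.Out ↥A.G1 := mk.comp W.diagT
  have hker : ∀ θ, mk θ = 1 ↔ ∃ x, MulAut.conj x = θ := fun θ =>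
    (QuotientGroup.eq_one_iff _).trans Iff.rfl
  have hk : Nat.card ↥(H1 A) = Nat.card ↥iT.ker := by
    choose f hf using fun x : ↥(H1 A) => W.exists_diagT_of_H1 x.2
    refine Nat.card_eq_of_bijective (fun x => ⟨f x, (hker _).2 ⟨x, (hf x).symm⟩⟩)
      ⟨fun x y e => ?_, fun c => ?_⟩
    · have e1 : MulAut.conj (x : ↥A.G1) = MulAut.conj (y : ↥A.G1) := by
        rw [← hf, ← hf, show f x = f y from congrArg Subtype.val e]
      have e2 := W.eq_one_of_conj (mul_mem (inv_mem y.2) x.2)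
        (by rw [map_mul, map_inv, e1, inv_mul_cancel])
      exact Subtype.ext (inv_mul_eq_one.1 e2).symm
    · obtain ⟨x, hx⟩ := (hker _).1 c.2
      have hxH : x ∈ H1 A := W.mem_H1_of_fixUV (hx ▸ W.diagT_fixUV c)
      exact ⟨⟨x, hxH⟩, Subtype.ext (W.diagT_injective ((hf ⟨x, hxH⟩).trans hx))⟩
  have hbij : Function.Bijective fun p : ↥iT.range × (F ≃+* F) =>
      (p.1 : Cfsg.Out ↥A.G1) * mk (fldT hφ p.2) := by
    constructor
    · rintro ⟨⟨_, c, rfl⟩, σ⟩ ⟨⟨_, d, rfl⟩, τ⟩ e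
      have e1 : mk (W.diagT (d⁻¹ * c) * fldT hφ (σ * τ⁻¹)) = 1 := by
        simp only [map_mul, map_inv]
        change (mk (W.diagT d))⁻¹ * mk (W.diagT c) * (mk (fldT hφ σ) * (mk (fldT hφ τ))⁻¹) = 1
        have e' : mk (W.diagT c) * mk (fldT hφ σ) = mk (W.diagT d) * mk (fldT hφ τ) := e
        calc _ = (mk (W.diagT d))⁻¹ * (mk (W.diagT c) * mk (fldT hφ σ)) *
              (mk (fldT hφ τ))⁻¹ := by group
          _ = 1 := by rw [e']; group
      obtain ⟨x, hx⟩ := (hker _).1 e1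
      have hxH : x ∈ H1 A := W.mem_H1_of_fixUV
        (hx ▸ (W.diagT_fixUV _).mul A (fldT_fixUV hφ _))
      obtain ⟨c0, hc0⟩ := W.exists_diagT_of_H1 hxH
      have hστ : σ = τ := by
        refine mul_inv_eq_one.1 (W.diag_fld hφ o₀ htop (c := (d⁻¹ * c)⁻¹ * c0) ?_)
        rw [map_mul W.diagT, hc0, hx, map_inv, inv_mul_cancel_left]
      subst hστ
      simp only at e ⊢
      exact Prod.ext (Subtype.ext (mul_right_cancel e)) rfl
    · intro y
      obtain ⟨θ, rfl⟩ := QuotientGroup.mk'_surjective _ y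
      haveI := Fintype.ofFinite F
      obtain ⟨x, hx⟩ := W.exists_fixUV θ
      obtain ⟨c, σ, he⟩ := W.exists_decomp hφ hperm o₀ htop hz hchain hx
      refine ⟨⟨⟨iT c, c, rfl⟩, σ⟩, ?_⟩
      show mk (W.diagT c) * mk (fldT hφ σ) = mk θ
      rw [← map_mul, ← he, map_mul, (hker _).2 ⟨x, rfl⟩, one_mul]
  have h1 := iT.ker.card_mul_index
  rw [Subgroup.index_ker] at h1
  have hH : Nat.card ↥(D.diagonalSubgroup F ⊓ A.G1) = Nat.card ↥(H1 A) := by
    rw [H1, ← Subgroup.inf_subgroupOf_right]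
    exact (Nat.card_congr (Subgroup.subgroupOfEquivOfLe inf_le_right).toEquiv).symm
  rw [← Nat.card_eq_of_bijective _ hbij, Nat.card_prod, hH, hk, ← h1]
  ring

end TwData

end CfsgLib.KnownA.TwistOut
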