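import Cfsg.Agent.Lib.Chev.TwistH
import Cfsg.Agent.Lib.Chev.Parabolic
import Cfsg.Agent.Lib.KnownA.Chev.Basic

/-!
Root elements of a twisted group with orthogonal orbits, one scalar parameter per orbit.
-/

set_option autoImplicit false

namespace CfsgLib.KnownA.TwistOut

open Cfsg.Lie CfsgLib.Chev CfsgLib.KnownA.ChevChar

variable {D : ChevalleyDatum} {F : Type*} [Field F] {g : Good D}

/-- Base roots and periods of the orbits, with the facts used for the automorphism group. -/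
structure TwData (A : A1Setup g F) where
  /-- a base root in each orbit -/
  b : Fin A.r → Fin D.rank
  /-- the length of each orbit -/
  k : Fin A.r → ℕ
  /-- the number of elements of the fixed field -/
  q : ℕ
  hc : HasComm D
  hch : chainsOK D = true
  hb : ∀ o, b o ∈ A.orb o
  hk : ∀ o, 0 < k o
  hper : ∀ o, (A.S.pi : Fin D.rank → Fin D.rank)^[k o] (b o) = b o
  hall : ∀ o, ∀ j ∈ A.orb o, ∃ m < k o, (A.S.pi : Fin D.rank → Fin D.rank)^[m] (b o) = j
  hlt : ∀ o, ∀ m < k o, ∀ m' < k o, (A.S.pi : Fin D.rank → Fin D.rank)^[m] (b o) =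
    (A.S.pi : Fin D.rank → Fin D.rank)^[m'] (b o) → m = m'
  q_gt : 1 < q
  hcard : ∀ o, Nat.card {c : F // (A.φ : F → F)^[k o] c = c} = q ^ k o
  sym : A.CoSym
  diag : D.diagonalSubgroup F ⊓ A.G1 = A.H0

variable {A : A1Setup g F} (W : TwData A)

namespace TwData

/-- The field of the parameter of an orbit. -/
abbrev Kf (o : Fin A.r) : Subfield F := (A.φ ^ W.k o).eqLocusField (RingHom.id F)

theorem mem_Kf {o : Fin A.r} {c : F} : c ∈ W.Kf o ↔ (A.φ : F → F)^[W.k o] c = c := by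
  show (A.φ ^ W.k o : F →+* F) c = c ↔ _
  rw [RingHom.coe_pow]

include W in
theorem exists_orbit (j : Fin D.rank) : ∃ o, j ∈ A.orb o := A.cover j

open Classical in
/-- The parameter vector of an orbit. -/
noncomputable def vec (o : Fin A.r) (c : F) (j : Fin D.rank) : F :=
  if h : ∃ m < W.k o, (A.S.pi : Fin D.rank → Fin D.rank)^[m] (W.b o) = j
  then (A.φ : F → F)^[h.choose] c else 1

theorem vec_iter (o : Fin A.r) (c : F) {m : ℕ} (hm : m < W.k o) :
    W.vec o c ((A.S.pi : Fin D.rank → Fin D.rank)^[m] (W.b o)) = (A.φ : F → F)^[m] c := by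
  have h : ∃ m' < W.k o, (A.S.pi : Fin D.rank → Fin D.rank)^[m'] (W.b o) =
      (A.S.pi : Fin D.rank → Fin D.rank)^[m] (W.b o) := ⟨m, hm, rfl⟩
  simp only [vec, dif_pos h]
  rw [W.hlt o _ h.choose_spec.1 _ hm h.choose_spec.2]

theorem vec_base (o : Fin A.r) (c : F) : W.vec o c (W.b o) = c := W.vec_iter o c (W.hk o)

theorem vec_compat (o : Fin A.r) {c : F} (hc : c ∈ W.Kf o) {i : Fin D.rank} (hi : i ∈ A.orb o) :
    W.vec o c (A.S.pi i) = A.φ (W.vec o c i) := by
  obtain ⟨m, hm, rfl⟩ := W.hall o i hi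
  rw [W.vec_iter o c hm, ← Function.iterate_succ_apply' A.S.pi, ← Function.iterate_succ_apply' A.φ]
  rcases Nat.lt_or_ge (m + 1) (W.k o) with h | h
  · exact W.vec_iter o c h
  · have hkm : m + 1 = W.k o := by omega
    rw [show m.succ = W.k o from hkm, W.hper, W.mem_Kf.1 hc, W.vec_base]

theorem vec_add (o : Fin A.r) (c d : F) {j : Fin D.rank} (hj : j ∈ A.orb o) :
    W.vec o (c + d) j = W.vec o c j + W.vec o d j := by
  obtain ⟨m, hm, rfl⟩ := W.hall o j hj
  simp only [W.vec_iter o _ hm, ← RingHom.coe_pow, map_add]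

theorem vec_neg (o : Fin A.r) (c : F) {j : Fin D.rank} (hj : j ∈ A.orb o) :
    W.vec o (-c) j = -W.vec o c j := by
  obtain ⟨m, hm, rfl⟩ := W.hall o j hj
  simp only [W.vec_iter o _ hm, ← RingHom.coe_pow, map_neg]

theorem vec_mul (o : Fin A.r) (c d : F) (j : Fin D.rank) :
    W.vec o (c * d) j = W.vec o c j * W.vec o d j := by
  unfold vec
  split_ifs
  · simp only [← RingHom.coe_pow, map_mul]
  · rw [one_mul]

theorem vec_one (o : Fin A.r) (j : Fin D.rank) : W.vec o 1 j = 1 := by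
  unfold vec
  split_ifs
  · simp only [← RingHom.coe_pow, map_one]
  · rfl

theorem vec_zero (o : Fin A.r) {j : Fin D.rank} (hj : j ∈ A.orb o) : W.vec o 0 j = 0 := by
  obtain ⟨m, hm, rfl⟩ := W.hall o j hj
  simp only [W.vec_iter o _ hm, ← RingHom.coe_pow, map_zero]

theorem compat_vec {o : Fin A.r} {t : Fin D.rank → F}
    (ht : ∀ i ∈ A.orb o, t (A.S.pi i) = A.φ (t i)) :
    ∃ c : W.Kf o, ∀ i ∈ A.orb o, t i = W.vec o c i := by
  have key : ∀ m, (A.S.pi : Fin D.rank → Fin D.rank)^[m] (W.b o) ∈ A.orb o ∧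
      t ((A.S.pi : Fin D.rank → Fin D.rank)^[m] (W.b o)) = (A.φ : F → F)^[m] (t (W.b o)) := by
    intro m
    induction m with
    | zero => exact ⟨W.hb o, rfl⟩
    | succ m ih =>
      rw [Function.iterate_succ_apply', Function.iterate_succ_apply']
      exact ⟨(A.isOrbit o).pi_mem _ ih.1, by rw [ht _ ih.1, ih.2]⟩
  have hper := (key (W.k o)).2
  rw [W.hper] at hper
  refine ⟨⟨t (W.b o), W.mem_Kf.2 hper.symm⟩, fun i hi => ?_⟩
  obtain ⟨m, hm, rfl⟩ := W.hall o i hi
  rw [(key m).2, W.vec_iter o _ hm]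

/-- The negative fundamental root of a node. -/
abbrev nsroot (g : Good D) (i : Fin D.rank) : Fin D.nroots := g.nroot (g.sroot i)

include W in
theorem xList_neg_inj {o : Fin A.r} {t u : Fin D.rank → F}
    (h : g.xList (nsroot g) (A.orb o) t = g.xList (nsroot g) (A.orb o) u)
    (i : Fin D.rank) (hi : i ∈ A.orb o) : t i = u i := by
  classical
  have hcm := ((A.isOrbit o).commutes (F := F) W.hc).2.1
  have hnd := (A.isOrbit o).nodup
  have hd : g.xList (nsroot g) (A.orb o) (t - u) = 1 := by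
    refine (mul_eq_right (b := g.xList (nsroot g) (A.orb o) u)).1 ?_
    rw [g.xList_add hnd hcm, sub_add_cancel]
    exact h
  have hsum : t - u = Pi.single i ((t - u) i) + Function.update (t - u) i 0 := by
    funext j
    by_cases hj : j = i
    · subst hj; simp
    · simp [hj]
  rw [hsum, ← g.xList_add hnd hcm, g.xList_single _ hnd hi] at hd
  set rest := g.xList (nsroot g) (A.orb o) (Function.update (t - u) i 0) with hrest
  have h1 : g.nI i * rest * (g.nI i)⁻¹ ∈ D.negUnipotent F := by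
    have hmem : ∀ l : List (Fin D.rank), ∀ v : Fin D.rank → F, v i = 0 →
        g.nI i * g.xList (nsroot g) l v * (g.nI i)⁻¹ ∈ D.negUnipotent F := by
      intro l v hv
      induction l with
      | nil => simp [Good.xList]
      | cons a l ih =>
        rw [g.xList_cons, show g.nI i * (g.xG (nsroot g a) (v a) * g.xList (nsroot g) l v) *
          (g.nI i)⁻¹ = (g.nI i * g.xG (nsroot g a) (v a) * (g.nI i)⁻¹) *
            (g.nI i * g.xList (nsroot g) l v * (g.nI i)⁻¹) by group]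
        refine mul_mem ?_ ih
        by_cases ha : a = i
        · subst ha; rw [hv, g.xG_zero, mul_one, mul_inv_cancel]; exact one_mem _
        · obtain ⟨c, hc'⟩ := g.acts_nI (F := F) i (nsroot g a)
          rw [hc']
          exact g.xG_mem_negUnipotent ((g.isNegRoot_iff _).2 (g.rperm_neg i (g.nroot_sroot_neg a)
            fun e => ha (g.sroot_injective (by simpa [g.nroot_nroot] using congrArg g.nroot e)))) _
    exact hmem _ _ (by simp)
  obtain ⟨c, hc'⟩ := g.acts_nI (F := F) i (nsroot g i)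
  have h2 : g.nI i * g.xG (nsroot g i) ((t - u) i) * (g.nI i)⁻¹ ∈ D.borelSubgroup F ⊓
      D.negUnipotent F := by
    refine Subgroup.mem_inf.2 ⟨Subgroup.mem_sup_left ?_, ?_⟩
    · rw [hc', g.rperm_nroot, g.rperm_sroot, g.nroot_nroot]
      exact g.xG_mem_posUnipotent ((g.isPosRoot_iff _).2 ⟨g.sroot_pos i, Fin.isLt _⟩) _
    · have e : g.xG (nsroot g i) ((t - u) i) = rest⁻¹ := eq_inv_of_mul_eq_one_left hd
      rw [e, show g.nI i * rest⁻¹ * (g.nI i)⁻¹ = (g.nI i * rest * (g.nI i)⁻¹)⁻¹ by group]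
      exact inv_mem h1
  rw [g.borel_inf_neg, Subgroup.mem_bot, conj_eq_one_iff] at h2
  have h3 := (g.x_eq_one_iff (nsroot g i).2 _).1 (congrArg Units.val h2)
  exact sub_eq_zero.1 h3

/-- The positive root element of an orbit. -/
noncomputable def xo (o : Fin A.r) (c : W.Kf o) : ↥A.G1 :=
  ⟨g.xList g.sroot (A.orb o) (W.vec o c), (A.gen_mem fun _ hi => W.vec_compat o c.2 hi).1⟩

/-- The negative root element of an orbit. -/
noncomputable def yo (o : Fin A.r) (c : W.Kf o) : ↥A.G1 :=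
  ⟨g.xList (nsroot g) (A.orb o) (W.vec o c), (A.gen_mem fun _ hi => W.vec_compat o c.2 hi).2⟩

theorem coe_xo (o : Fin A.r) (c : W.Kf o) :
    (W.xo o c : GL D.Idx F) = g.xList g.sroot (A.orb o) (W.vec o c) := rfl

theorem coe_yo (o : Fin A.r) (c : W.Kf o) :
    (W.yo o c : GL D.Idx F) = g.xList (nsroot g) (A.orb o) (W.vec o c) := rfl

theorem xo_add (o : Fin A.r) (c d : W.Kf o) : W.xo o c * W.xo o d = W.xo o (c + d) := by
  refine Subtype.ext ?_
  rw [Subgroup.coe_mul, coe_xo, coe_xo, coe_xo, g.xList_add (A.isOrbit o).nodup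
    ((A.isOrbit o).commutes W.hc).1]
  exact g.xList_congr fun j hj => (W.vec_add o _ _ hj).symm

theorem yo_add (o : Fin A.r) (c d : W.Kf o) : W.yo o c * W.yo o d = W.yo o (c + d) := by
  refine Subtype.ext ?_
  rw [Subgroup.coe_mul, coe_yo, coe_yo, coe_yo, g.xList_add (A.isOrbit o).nodup
    ((A.isOrbit o).commutes W.hc).2.1]
  exact g.xList_congr fun j hj => (W.vec_add o _ _ hj).symm

theorem xo_zero (o : Fin A.r) : W.xo o 0 = 1 :=
  mul_eq_left.1 (by rw [xo_add, add_zero] : W.xo o 0 * W.xo o 0 = W.xo o 0)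

theorem yo_zero (o : Fin A.r) : W.yo o 0 = 1 :=
  mul_eq_left.1 (by rw [yo_add, add_zero] : W.yo o 0 * W.yo o 0 = W.yo o 0)

theorem xo_neg (o : Fin A.r) (c : W.Kf o) : W.xo o (-c) = (W.xo o c)⁻¹ :=
  eq_inv_of_mul_eq_one_left (by rw [xo_add, neg_add_cancel, xo_zero])

theorem yo_neg (o : Fin A.r) (c : W.Kf o) : W.yo o (-c) = (W.yo o c)⁻¹ :=
  eq_inv_of_mul_eq_one_left (by rw [yo_add, neg_add_cancel, yo_zero])

theorem xo_injective (o : Fin A.r) : Function.Injective (W.xo o) := fun c d h => by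
  have h1 := g.xList_inj W.hc (A.isOrbit o).sorted (congrArg Subtype.val h) (W.b o) (W.hb o)
  rw [vec_base, vec_base] at h1
  exact Subtype.ext h1

theorem yo_injective (o : Fin A.r) : Function.Injective (W.yo o) := fun c d h => by
  have h1 := W.xList_neg_inj (congrArg Subtype.val h) (W.b o) (W.hb o)
  rw [vec_base, vec_base] at h1
  exact Subtype.ext h1

/-- A fixed element of the positive orbit group is a root element. -/
theorem exists_xo (o : Fin A.r) {x : ↥A.G1} {t : Fin D.rank → F}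
    (h : (x : GL D.Idx F) = g.xList g.sroot (A.orb o) t) : ∃ c, x = W.xo o c := by
  have hmem : (x : GL D.Idx F) ∈ A.T.fixedMinus (g.wperm (A.orb o)) :=
    Subgroup.mem_inf.2 ⟨A.G1_le_fixed W.hc x.2, ((A.isOrbit o).mem_minus W.hc).2 ⟨t, h⟩⟩
  obtain ⟨t', ht', he⟩ := (A.mem_fixedMinus W.hc o).1 hmem
  obtain ⟨c, hc⟩ := W.compat_vec ht'
  exact ⟨c, Subtype.ext (he.trans (g.xList_congr hc))⟩

/-- A fixed element of the negative orbit group is a root element. -/
theorem exists_yo (o : Fin A.r) {x : ↥A.G1} {t : Fin D.rank → F}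
    (h : (x : GL D.Idx F) = g.xList (nsroot g) (A.orb o) t) : ∃ c, x = W.yo o c := by
  have hm : g.xList (nsroot g) (A.orb o) t ∈ D.group F := h ▸ A.T.fixed_le (A.G1_le_fixed W.hc x.2)
  have hfx : g.xList (nsroot g) (A.orb o) t ∈ A.T.fixed := h ▸ A.G1_le_fixed W.hc x.2
  have h1 := congrArg Subtype.val ((A.T.mem_fixed ⟨_, hm⟩).1 hfx)
  rw [A.σ_xList W.hc o _ A.f_neg A.ρ_nsroot ((A.isOrbit o).commutes W.hc).2.1 t hm] at h1
  have ht : ∀ i ∈ A.orb o, t (A.S.pi i) = A.φ (t i) := fun i hi => by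
    have h2 := W.xList_neg_inj h1 (A.S.pi i) ((A.isOrbit o).pi_mem i hi)
    rw [Equiv.symm_apply_apply] at h2
    exact h2.symm
  obtain ⟨c, hc⟩ := W.compat_vec ht
  exact ⟨c, Subtype.ext (h.trans (g.xList_congr hc))⟩

/-- The units of the parameter vector. -/
noncomputable def vecU (o : Fin A.r) : (W.Kf o)ˣ →* (Fin D.rank → Fˣ) :=
  MonoidHom.pi fun j => Units.map
    { toFun := fun c : W.Kf o => W.vec o (c : F) j
      map_one' := W.vec_one o j
      map_mul' := fun c d => W.vec_mul o c d j }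

theorem vecU_apply (o : Fin A.r) (c : (W.Kf o)ˣ) (j : Fin D.rank) :
    (W.vecU o c j : F) = W.vec o ((c : W.Kf o) : F) j := rfl

theorem vecU_outside (o : Fin A.r) (c : (W.Kf o)ˣ) {j : Fin D.rank} (hj : j ∉ A.orb o) :
    W.vecU o c j = 1 := by
  refine Units.ext ?_
  rw [vecU_apply, Units.val_one, vec, dif_neg]
  rintro ⟨m, hm, rfl⟩
  refine hj ?_
  clear hm hj
  induction m with
  | zero => exact W.hb o
  | succ m ih => rw [Function.iterate_succ_apply']; exact (A.isOrbit o).pi_mem _ ih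

/-- The torus element of an orbit, in the general linear group. -/
noncomputable def hG0 (o : Fin A.r) (c : (W.Kf o)ˣ) : GL D.Idx F := torHom D F (W.vecU o c)

theorem hG0_eq (o : Fin A.r) (c : (W.Kf o)ˣ) :
    W.hG0 o c = ((A.orb o).map fun (i : Fin D.rank) => g.hG (D.simple i) (W.vecU o c i)).prod := by
  rw [← A.torHom_orbit, hG0]
  congr 1
  funext j
  classical
  rw [Finset.prod_apply]
  simp only [Pi.mulSingle_apply, Finset.prod_ite_eq, List.mem_toFinset]
  split_ifs with hj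
  · rfl
  · exact W.vecU_outside o c hj

/-- The representative of the orbit reflection with a parameter. -/
noncomputable def no (o : Fin A.r) (c : (W.Kf o)ˣ) : ↥A.G1 :=
  W.xo o c * W.yo o (-((c⁻¹ : (W.Kf o)ˣ) : W.Kf o)) * W.xo o c

theorem coe_no (o : Fin A.r) (c : (W.Kf o)ˣ) :
    (W.no o c : GL D.Idx F) = W.hG0 o c * g.wordN (A.orb o) := by
  rw [W.hG0_eq, ← A.prod_nG_eq W.hc, A.prod_nG W.hc, no, Subgroup.coe_mul, Subgroup.coe_mul,
    coe_xo, coe_yo]
  congr 2
  refine g.xList_congr fun j hj => ?_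
  rw [show ((-((c⁻¹ : (W.Kf o)ˣ) : W.Kf o) : W.Kf o) : F) = -(((c⁻¹ : (W.Kf o)ˣ) : W.Kf o) : F)
    from rfl, W.vec_neg o _ hj, ← vecU_apply, map_inv]
  rfl

theorem hG0_one (o : Fin A.r) : W.hG0 o 1 = 1 := by rw [hG0, map_one, map_one]

theorem coe_no_one (o : Fin A.r) : (W.no o 1 : GL D.Idx F) = g.wordN (A.orb o) := by
  rw [coe_no, hG0_one, one_mul]

/-- The torus element of an orbit. -/
noncomputable def ho (o : Fin A.r) (c : (W.Kf o)ˣ) : ↥A.G1 := W.no o c * (W.no o 1)⁻¹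

theorem coe_ho (o : Fin A.r) (c : (W.Kf o)ˣ) : (W.ho o c : GL D.Idx F) = W.hG0 o c := by
  rw [ho, Subgroup.coe_mul, Subgroup.coe_inv, coe_no, coe_no_one, mul_inv_cancel_right]

theorem acts_no (o : Fin A.r) (c : (W.Kf o)ˣ) :
    g.Acts (W.no o c : GL D.Idx F) (g.wperm (A.orb o)) := by
  rw [coe_no]
  have h := g.acts_mul (g.acts_diagonal (g.torHom_mem (W.vecU o c))) (g.acts_wordN (F := F) (A.orb o))
  rwa [one_mul] at h

theorem conj_xList (c : Fin D.rank → Fˣ) (l : List (Fin D.rank)) (e : Fin D.rank → Fin D.nroots)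
    (t : Fin D.rank → F) : torHom D F c * g.xList e l t * (torHom D F c)⁻¹ =
      g.xList e l fun j => ((∏ i : Fin D.rank, c i ^ D.cartan i (e j) : Fˣ) : F) * t j := by
  induction l with
  | nil => simp [Good.xList]
  | cons a l ih =>
    rw [g.xList_cons, g.xList_cons, ← ih, ← g.torHom_conj_xG c (e a).2 (t a)]
    group

/-- The character of the orbit torus on an orbit. -/
noncomputable def chi (o o' : Fin A.r) (c : (W.Kf o)ˣ) : F :=
  ((∏ i : Fin D.rank, W.vecU o c i ^ D.cartan i (g.sroot (W.b o')) : Fˣ) : F)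

theorem ho_conj (o o' : Fin A.r) (c : (W.Kf o)ˣ) (t : W.Kf o') :
    ∃ u : W.Kf o', (u : F) = W.chi o o' c * t ∧
      W.ho o c * W.xo o' t * (W.ho o c)⁻¹ = W.xo o' u := by
  have hco : ((W.ho o c * W.xo o' t * (W.ho o c)⁻¹ : ↥A.G1) : GL D.Idx F) =
      g.xList g.sroot (A.orb o') fun j => ((∏ i : Fin D.rank,
        W.vecU o c i ^ D.cartan i (g.sroot j) : Fˣ) : F) * W.vec o' t j := by
    rw [Subgroup.coe_mul, Subgroup.coe_mul, Subgroup.coe_inv, coe_ho, coe_xo, hG0, conj_xList]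
  obtain ⟨u, hu⟩ := W.exists_xo o' hco
  refine ⟨u, ?_, hu⟩
  rw [hu, coe_xo] at hco
  have h := g.xList_inj W.hc (A.isOrbit o').sorted hco (W.b o') (W.hb o')
  rwa [vec_base, vec_base] at h

end TwData

end CfsgLib.KnownA.TwistOut
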