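import Cfsg.Agent.Lib.KnownA.TwistOut.Base
import Cfsg.Agent.Lib.Chev.TwistBN

/-!
An automorphism of a twisted group can be composed with an inner one to fix `U¹` and `V¹`.
-/

set_option autoImplicit false

namespace CfsgLib.KnownA.TwistOut

open Cfsg.Lie CfsgLib.Chev

variable {D : ChevalleyDatum} {F : Type*} [Field F] {g : Good D}

section Sets

variable (A : A1Setup g F)

/-- `U¹`. -/
def U1 : Subgroup ↥A.G1 := (D.posUnipotent F).subgroupOf A.G1

/-- `V¹`. -/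
def V1 : Subgroup ↥A.G1 := (D.negUnipotent F).subgroupOf A.G1

/-- `B¹`. -/
def B1 : Subgroup ↥A.G1 := (D.borelSubgroup F).subgroupOf A.G1

/-- `H¹`. -/
def H1 : Subgroup ↥A.G1 := (D.diagonalSubgroup F).subgroupOf A.G1

/-- An automorphism fixes `U¹` and `V¹`. -/
structure FixUV (θ : MulAut ↥A.G1) : Prop where
  memU : ∀ x, θ x ∈ U1 A ↔ x ∈ U1 A
  memV : ∀ x, θ x ∈ V1 A ↔ x ∈ V1 A

theorem FixUV.mul {θ θ' : MulAut ↥A.G1} (h : FixUV A θ) (h' : FixUV A θ') : FixUV A (θ * θ') :=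
  ⟨fun x => by rw [MulAut.mul_apply, h.memU, h'.memU],
    fun x => by rw [MulAut.mul_apply, h.memV, h'.memV]⟩

theorem FixUV.inv {θ : MulAut ↥A.G1} (h : FixUV A θ) : FixUV A θ⁻¹ :=
  ⟨fun x => by rw [← h.memU, MulAut.apply_inv_self],
    fun x => by rw [← h.memV, MulAut.apply_inv_self]⟩

theorem B1_inf_V1 {x : ↥A.G1} (hB : x ∈ B1 A) (hV : x ∈ V1 A) : x = 1 := by
  have h : (x : GL D.Idx F) ∈ D.borelSubgroup F ⊓ D.negUnipotent F := ⟨hB, hV⟩
  rw [g.borel_inf_neg, Subgroup.mem_bot] at h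
  exact Subtype.ext h

theorem U1_le_B1 : U1 A ≤ B1 A := fun _ hx => Subgroup.mem_sup_left hx

theorem B1_conj_U1 {b x : ↥A.G1} (hb : b ∈ B1 A) (hx : x ∈ U1 A) : b * x * b⁻¹ ∈ U1 A :=
  (Subgroup.mem_normalizer_iff.1 ((sup_le Subgroup.le_normalizer g.diagonal_le_normalizer_pos :
    D.borelSubgroup F ≤ _) hb) _).1 hx

theorem B1_conj_U1_iff {b x : ↥A.G1} (hb : b ∈ B1 A) : b * x * b⁻¹ ∈ U1 A ↔ x ∈ U1 A := by
  refine ⟨fun h => ?_, B1_conj_U1 A hb⟩
  simpa [mul_assoc] using B1_conj_U1 A (inv_mem hb) h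

theorem weylFix_inv_eq {v : Equiv.Perm (Fin D.nroots)} (hv : v ∈ g.weyl)
    (hneg : ∀ a : Fin D.nroots, half D ≤ a.val → (v a).val < half D) {a : Fin D.nroots}
    (ha : a.val < half D) : half D ≤ (v⁻¹ a).val := by
  by_contra hlt
  have h1 := hneg _ ((g.nroot_pos_iff _).2 (not_le.1 hlt))
  rw [g.weyl_nroot hv, Equiv.Perm.coe_inv, Equiv.apply_symm_apply] at h1
  have := (g.nroot_pos_iff a).2 ha
  omega

/-- The elements of `G¹` acting as the longest Weyl element. -/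
def IsLongest (n : ↥A.G1) : Prop :=
  (n : GL D.Idx F) ∈ D.monomialSubgroup F ∧ ∃ w : Equiv.Perm (Fin D.nroots), w ∈ A.T.weylFix ∧
    g.Acts (n : GL D.Idx F) w ∧ ∀ a : Fin D.nroots, half D ≤ a.val → (w a).val < half D

variable {A}

theorem IsLongest.conj_U1 {n x : ↥A.G1} (hn : IsLongest A n) (hx : x ∈ U1 A) :
    n * x * n⁻¹ ∈ V1 A := by
  obtain ⟨-, w, -, hw, hneg⟩ := hn
  show (n * x * n⁻¹ : GL D.Idx F) ∈ D.negUnipotent F
  have hx' : (x : GL D.Idx F) ∈ D.posUnipotent F := hx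
  rw [g.posUnipotent_eq] at hx'
  rw [g.negUnipotent_eq]
  exact g.conj_rootGen hw (S := Set.Ici (half D)) (T := Set.Iio (half D))
    (fun s hs => hneg s hs) (Subgroup.mem_map_of_mem _ hx')

theorem IsLongest.inv_conj_V1 {n x : ↥A.G1} (hn : IsLongest A n) (hx : x ∈ V1 A) :
    n⁻¹ * x * n ∈ U1 A := by
  obtain ⟨-, w, hwF, hw, hneg⟩ := hn
  show ((n : GL D.Idx F)⁻¹ * x * n) ∈ D.posUnipotent F
  have hx' : (x : GL D.Idx F) ∈ D.negUnipotent F := hx
  rw [g.negUnipotent_eq] at hx'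
  rw [g.posUnipotent_eq]
  have h := g.conj_rootGen (g.acts_inv hw) (S := Set.Iio (half D)) (T := Set.Ici (half D))
    (fun s hs => weylFix_inv_eq (A.T.mem_weylFix.1 hwF).1 hneg hs) (Subgroup.mem_map_of_mem _ hx')
  simpa using h

theorem IsLongest.conj_mem_V1_iff {n x : ↥A.G1} (hn : IsLongest A n) :
    n * x * n⁻¹ ∈ V1 A ↔ x ∈ U1 A := by
  refine ⟨fun h => ?_, hn.conj_U1⟩
  simpa [mul_assoc] using hn.inv_conj_V1 h

theorem IsLongest.inv_conj_mem_U1_iff {n x : ↥A.G1} (hn : IsLongest A n) :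
    n⁻¹ * x * n ∈ U1 A ↔ x ∈ V1 A := by
  refine ⟨fun h => ?_, hn.inv_conj_V1⟩
  simpa [mul_assoc] using hn.conj_U1 h

theorem IsLongest.inv_conj_U1 {n x : ↥A.G1} (hn : IsLongest A n) (hx : x ∈ U1 A) :
    n⁻¹ * x * n ∈ V1 A := by
  obtain ⟨-, w, hwF, hw, hneg⟩ := hn
  show ((n : GL D.Idx F)⁻¹ * x * n) ∈ D.negUnipotent F
  have hx' : (x : GL D.Idx F) ∈ D.posUnipotent F := hx
  rw [g.posUnipotent_eq] at hx'
  rw [g.negUnipotent_eq]
  have h := g.conj_rootGen (g.acts_inv hw) (S := Set.Ici (half D)) (T := Set.Iio (half D))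
    (fun s hs => by
      show (w⁻¹ s).val < half D
      by_contra hge
      have h1 := hneg _ (not_lt.1 hge)
      rw [Equiv.Perm.coe_inv, Equiv.apply_symm_apply] at h1
      have : half D ≤ s.val := hs
      omega) (Subgroup.mem_map_of_mem _ hx')
  simpa using h

theorem IsLongest.conj_mem_U1_iff {n x : ↥A.G1} (hn : IsLongest A n) :
    n * x * n⁻¹ ∈ U1 A ↔ x ∈ V1 A := by
  refine ⟨fun h => ?_, fun hx => ?_⟩
  · simpa [mul_assoc] using hn.inv_conj_U1 h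
  · obtain ⟨-, w, hwF, hw, hneg⟩ := hn
    show (n * x * n⁻¹ : GL D.Idx F) ∈ D.posUnipotent F
    have hx' : (x : GL D.Idx F) ∈ D.negUnipotent F := hx
    rw [g.negUnipotent_eq] at hx'
    rw [g.posUnipotent_eq]
    refine g.conj_rootGen hw (S := Set.Iio (half D)) (T := Set.Ici (half D)) (fun s hs => ?_)
      (Subgroup.mem_map_of_mem _ hx')
    show half D ≤ (w s).val
    have h1 := hneg _ ((g.nroot_pos_iff s).2 hs)
    rw [g.weyl_nroot (A.T.mem_weylFix.1 hwF).1, ← not_le, g.nroot_pos_iff, not_lt] at h1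
    exact h1

end Sets

namespace TwData

variable {A : A1Setup g F} (W : TwData A)

include W in
theorem exists_canon (x : ↥A.G1) : ∃ (v : Equiv.Perm (Fin D.nroots)) (b n u : ↥A.G1),
    v ∈ A.T.weylFix ∧ b ∈ B1 A ∧ (n : GL D.Idx F) ∈ D.monomialSubgroup F ∧
      g.Acts (n : GL D.Idx F) v ∧ u ∈ U1 A ∧ x = b * n * u := by
  obtain ⟨v, hv, n, hn, hnm, hna, b, hb, u, hu, he⟩ := (A.sys W.hc).exists_canonical W.hc x.2
  exact ⟨v, ⟨b, hb.2⟩, ⟨n, hn⟩, ⟨u, (A.sys W.hc).fixedMinus_le W.hc hv hu⟩, hv, hb.1, hnm, hna,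
    g.minus_le_pos _ hu.2, Subtype.ext he⟩

theorem xo_mem_U1 (o : Fin A.r) (c : W.Kf o) : W.xo o c ∈ U1 A :=
  show g.xList g.sroot (A.orb o) (W.vec o (c : F)) ∈ D.posUnipotent F from
    Subgroup.list_prod_mem _ fun x hx => by
    obtain ⟨j, -, rfl⟩ := List.mem_map.1 hx
    exact g.xG_mem_posUnipotent ((g.isPosRoot_iff _).2 ⟨g.sroot_pos j, Fin.isLt _⟩) _

theorem yo_mem_V1 (o : Fin A.r) (c : W.Kf o) : W.yo o c ∈ V1 A :=
  show g.xList (nsroot g) (A.orb o) (W.vec o (c : F)) ∈ D.negUnipotent F from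
    Subgroup.list_prod_mem _ fun x hx => by
    obtain ⟨j, -, rfl⟩ := List.mem_map.1 hx
    exact g.xG_mem_negUnipotent ((g.isNegRoot_iff _).2 (g.nroot_sroot_neg j)) _

theorem xo_one_ne (o : Fin A.r) : W.xo o 1 ≠ 1 := fun h =>
  one_ne_zero (W.xo_injective o (h.trans (W.xo_zero o).symm))

theorem conj_xo_mem {o : Fin A.r} {n : ↥A.G1} {v : Equiv.Perm (Fin D.nroots)}
    (hna : g.Acts (n : GL D.Idx F) v) {T : Set ℕ} (hT : ∀ j ∈ A.orb o, (v (g.sroot j)).val ∈ T)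
    (c : W.Kf o) : ((n * W.xo o c * n⁻¹ : ↥A.G1) : GL D.Idx F) ∈ rootGen D F T := by
  refine g.conj_rootGen hna (S := {r | ∃ j ∈ A.orb o, (g.sroot j).val = r}) (T := T) ?_
    (Subgroup.mem_map_of_mem _ (Subgroup.list_prod_mem _ fun x hx => ?_))
  · rintro s ⟨j, hj, e⟩
    rw [show s = g.sroot j from Fin.ext e.symm]
    exact hT j hj
  · obtain ⟨j, hj, rfl⟩ := List.mem_map.1 hx
    exact g.mem_rootGen (Fin.isLt _) (show (g.sroot j).val ∈
      {r | ∃ i ∈ A.orb o, (g.sroot i).val = r} from ⟨j, hj, rfl⟩) _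

include W in
theorem orbit_dichotomy {v : Equiv.Perm (Fin D.nroots)} (hv : v ∈ A.T.weylFix) (o : Fin A.r) :
    (∀ j ∈ A.orb o, half D ≤ (v (g.sroot j)).val) ∨
      (∀ j ∈ A.orb o, (v (g.sroot j)).val < half D) := by
  have h := (A.sys W.hc).dichotomy (inv_mem hv) o
  simp only [inv_inv] at h
  exact h.imp (fun h j hj => h _ (g.sroot_pos j) (g.suppIn_sroot j ⟨j, hj, rfl⟩))
    (fun h j hj => h _ (g.sroot_pos j) (g.suppIn_sroot j ⟨j, hj, rfl⟩))

include W in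
/-- An element sending no part of `U¹` into `U` is the longest one. -/
theorem isLongest_of_inf {n : ↥A.G1} {v : Equiv.Perm (Fin D.nroots)} (hv : v ∈ A.T.weylFix)
    (hnm : (n : GL D.Idx F) ∈ D.monomialSubgroup F) (hna : g.Acts (n : GL D.Idx F) v)
    (h : ∀ y ∈ U1 A, n * y * n⁻¹ ∈ U1 A → y = 1) : IsLongest A n := by
  have hneg : ∀ i : Fin D.rank, (v (g.sroot i)).val < half D := by
    intro i
    obtain ⟨o, ho⟩ := A.cover i
    refine (W.orbit_dichotomy hv o).resolve_left (fun hp => ?_) i ho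
    refine W.xo_one_ne o (h _ (W.xo_mem_U1 o 1) ?_)
    show _ ∈ D.posUnipotent F
    rw [g.posUnipotent_eq]
    exact W.conj_xo_mem hna (T := Set.Ici (half D)) hp 1
  obtain ⟨w₀, hw₀, hms, -⟩ := A.T.exists_longest_fixed
  have hw0neg : ∀ a : Fin D.nroots, half D ≤ a.val → (w₀ a).val < half D := fun a ha => by
    obtain ⟨_, _, h2⟩ := (hms ▸ ⟨a.2, ha⟩ : (a : ℕ) ∈ minusSet w₀)
    exact h2
  obtain ⟨l, hl⟩ := g.exists_wperm (mul_mem (inv_mem (A.T.mem_weylFix.1 hw₀).1) (A.T.mem_weylFix.1 hv).1)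
  have h1 : w₀⁻¹ * v = 1 := by
    refine g.eq_one_of_pos (mul_mem (inv_mem (A.T.mem_weylFix.1 hw₀).1) (A.T.mem_weylFix.1 hv).1)
      fun a ha => ?_
    rw [← hl]
    refine g.pos_of_simples (J := Set.univ) l (fun q _ => ?_) ha
      fun q _ hq => absurd (Set.mem_univ q) hq
    rw [hl, Equiv.Perm.mul_apply]
    exact weylFix_inv_eq (A.T.mem_weylFix.1 hw₀).1 hw0neg (hneg q)
  obtain rfl := inv_mul_eq_one.1 h1
  exact ⟨hnm, w₀, hw₀, hna, hw0neg⟩

include W in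
theorem exists_isLongest : ∃ n, IsLongest A n := by
  obtain ⟨w₀, hw₀, hms, -⟩ := A.T.exists_longest_fixed
  obtain ⟨n, hn, hnm, hna⟩ := (A.sys W.hc).exists_rep hw₀
  refine ⟨⟨n, hn⟩, hnm, w₀, hw₀, hna, fun a ha => ?_⟩
  obtain ⟨_, _, h2⟩ := (hms ▸ ⟨a.2, ha⟩ : (a : ℕ) ∈ minusSet w₀)
  exact h2

include W in
/-- The normaliser of `U¹` is `B¹`. -/
theorem mem_B1_of_normalizes {x : ↥A.G1} (h : ∀ u ∈ U1 A, x * u * x⁻¹ ∈ U1 A) : x ∈ B1 A := by
  obtain ⟨v, b, n, u, hv, hb, hnm, hna, hu, rfl⟩ := W.exists_canon x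
  have hv1 : v = 1 := by
    by_contra hne
    obtain ⟨i, hi⟩ := g.exists_descent (inv_mem (A.T.mem_weylFix.1 hv).1) (inv_ne_one.2 hne)
    rw [inv_inv] at hi
    obtain ⟨o, ho⟩ := A.cover i
    have hp := (W.orbit_dichotomy hv o).resolve_left fun hp => by have := hp i ho; omega
    have h1 := h (u⁻¹ * W.xo o 1 * u) (mul_mem (mul_mem (inv_mem hu) (W.xo_mem_U1 o 1)) hu)
    rw [show b * n * u * (u⁻¹ * W.xo o 1 * u) * (b * n * u)⁻¹ = b * (n * W.xo o 1 * n⁻¹) * b⁻¹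
      by group, B1_conj_U1_iff A hb] at h1
    have h2 : n * W.xo o 1 * n⁻¹ ∈ V1 A := by
      show _ ∈ D.negUnipotent F
      rw [g.negUnipotent_eq]
      exact W.conj_xo_mem hna (T := Set.Iio (half D)) hp 1
    exact W.xo_one_ne o (conj_eq_one_iff.1 (B1_inf_V1 A (U1_le_B1 A h1) h2))
  subst hv1
  have hnH : (n : GL D.Idx F) ∈ D.diagonalSubgroup F := by
    have := g.monomial_same_acts hnm (one_mem _) hna g.acts_one
    simpa using this
  exact mul_mem (mul_mem hb (Subgroup.mem_sup_right hnH)) (U1_le_B1 A hu)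

include W in
/-- An inner automorphism fixing `U¹` and `V¹` comes from `H¹`. -/
theorem mem_H1_of_fixUV {x : ↥A.G1} (h : FixUV A (MulAut.conj x)) : x ∈ H1 A := by
  obtain ⟨n, hn⟩ := W.exists_isLongest
  have hB : x ∈ B1 A := W.mem_B1_of_normalizes fun u hu => (h.memU u).2 hu
  have hB' : n⁻¹ * x * n ∈ B1 A := by
    refine W.mem_B1_of_normalizes fun u hu => ?_
    have h1 : x * (n * u * n⁻¹) * x⁻¹ ∈ V1 A := (h.memV _).2 (hn.conj_U1 hu)
    have h2 := hn.inv_conj_V1 h1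
    simpa [mul_assoc] using h2
  show (x : GL D.Idx F) ∈ D.diagonalSubgroup F
  rw [← g.borel_inf_negBorel]
  refine ⟨hB, ?_⟩
  obtain ⟨y, hy, t, ht, he⟩ := (A.sys W.hc).borel_inf_decomp W.hc
    (Subgroup.mem_inf.2 ⟨hB', (n⁻¹ * x * n).2⟩ :
      ((n⁻¹ * x * n : ↥A.G1) : GL D.Idx F) ∈ D.borelSubgroup F ⊓ (A.sys W.hc).G1)
  have e : (x : GL D.Idx F) = (n : GL D.Idx F) * y * (n : GL D.Idx F)⁻¹ *
      ((n : GL D.Idx F) * t * (n : GL D.Idx F)⁻¹) := by
    rw [show (x : GL D.Idx F) = n * ((n⁻¹ * x * n : ↥A.G1) : GL D.Idx F) * (n : GL D.Idx F)⁻¹ by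
      simp only [Subgroup.coe_mul, Subgroup.coe_inv]; group, he]
    group
  rw [e]
  exact mul_mem (Subgroup.mem_sup_left (hn.conj_U1 (x := ⟨y, hy.2⟩) hy.1))
    (Subgroup.mem_sup_right (g.diag_conj hn.1 ht.1))

theorem card_fix_orbit (o : Fin A.r) :
    Nat.card (A.T.fixedMinus ((A.sys W.hc).w o)) ^ 1 = W.q ^ ninv D ((A.sys W.hc).w o) := by
  have h1 := A.card_fixedMinus W.hc o (W.b o) (W.hb o) (W.hper o) (W.hall o) (W.hlt o)
  have hlen : (A.orb o).length = W.k o := by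
    classical
    have e : (A.orb o).toFinset = (Finset.range (W.k o)).image
        fun m => (A.S.pi : Fin D.rank → Fin D.rank)^[m] (W.b o) := by
      ext j
      simp only [List.mem_toFinset, Finset.mem_image, Finset.mem_range]
      refine ⟨W.hall o j, ?_⟩
      rintro ⟨m, -, rfl⟩
      induction m with
      | zero => exact W.hb o
      | succ m ih => rw [Function.iterate_succ_apply']; exact (A.isOrbit o).pi_mem _ ih
    rw [← List.toFinset_card_of_nodup (A.isOrbit o).nodup, e, Finset.card_image_of_injOn,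
      Finset.card_range]
    exact fun m hm m' hm' h => W.hlt o m (Finset.mem_range.1 hm) m' (Finset.mem_range.1 hm') h
  show Nat.card (A.T.fixedMinus (g.wperm (A.orb o))) ^ 1 = W.q ^ ninv D (g.wperm (A.orb o))
  rw [pow_one, h1, W.hcard, (A.isOrbit o).ninv_eq, hlen]

variable [Fintype F]

include W in
theorem exists_sylow (p : ℕ) [CharP F p] [Fact p.Prime] :
    ∃ P : Sylow p ↥A.G1, (P : Subgroup ↥A.G1) = U1 A := by
  classical
  have hc := W.hc
  obtain ⟨Q, hQ⟩ := CfsgLib.KnownA.Chev.exists_sylow_posUnipotent g hc p (F := F)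
  have hle : A.G1 ≤ D.group F := (A.G1_le_fixed hc).trans A.T.fixed_le
  have hUp : IsPGroup p ↥(D.posUnipotent F) := by
    have h := Q.isPGroup'
    rw [hQ] at h
    exact h.of_equiv (Subgroup.subgroupOfEquivOfLe g.posUnipotent_le_group)
  have hp : IsPGroup p ↥(U1 A) :=
    hUp.comap_of_injective A.G1.subtype A.G1.subtype_injective
  have hidx : ¬ p ∣ (U1 A).index := by
    have h1 := Subgroup.card_mul_index (U1 A)
    have hcU : Nat.card ↥(U1 A) = Nat.card ↥(D.posUnipotent F ⊓ A.G1) := by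
      rw [U1, ← Subgroup.inf_subgroupOf_right]
      exact Nat.card_congr (Subgroup.subgroupOfEquivOfLe inf_le_right).toEquiv
    have hsys : (A.sys hc).G1 = A.G1 := rfl
    have hG := (A.sys hc).card_G1 hc
    rw [(A.sys hc).card_borel_inf hc, hsys] at hG
    rw [hcU, hG, mul_assoc] at h1
    rw [Nat.eq_of_mul_eq_mul_left Nat.card_pos h1]
    intro h
    rcases (Nat.Prime.dvd_mul Fact.out).1 h with h | h
    · exact CfsgLib.KnownA.Chev.diagonal_coprime g (F := F) p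
        (h.trans (Subgroup.card_dvd_of_le inf_le_left))
    · have h0 : ∀ w ∈ (Finset.univ.filter fun w => w ∈ A.T.weylFix).erase 1,
          p ∣ Nat.card (A.T.fixedMinus w) := by
        intro w hw
        simp only [Finset.mem_erase, Finset.mem_filter, Finset.mem_univ, true_and] at hw
        have hcw := (A.sys hc).card_fixedMinus hc W.card_fix_orbit hw.2
        rw [pow_one] at hcw
        obtain ⟨m, hm⟩ := (hUp.to_le (show A.T.fixedMinus w ≤ D.posUnipotent F from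
          fun x hx => g.minus_le_pos _ hx.2)).exists_card_eq
        have hne : ninv D w ≠ 0 := by
          intro h0
          refine hw.1 (g.eq_one_of_pos (A.T.mem_weylFix.1 hw.2).1 fun a ha => ?_)
          rw [ninv, Finset.card_eq_zero, Finset.filter_eq_empty_iff] at h0
          by_contra hc'
          exact h0 (Finset.mem_univ a) ⟨ha, not_le.1 hc'⟩
        have hgt : 1 < Nat.card (A.T.fixedMinus w) := hcw ▸ Nat.one_lt_pow hne W.q_gt
        rw [hm] at hgt ⊢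
        exact dvd_pow_self p fun h => by rw [h, pow_zero] at hgt; exact lt_irrefl _ hgt
      rw [← Finset.add_sum_erase _ _ (Finset.mem_filter.2 ⟨Finset.mem_univ _,
        one_mem A.T.weylFix⟩)] at h
      have h2 := (Nat.dvd_add_left (Finset.dvd_sum h0)).1 h
      have h3 : Nat.card (A.T.fixedMinus (1 : Equiv.Perm (Fin D.nroots))) = 1 := by
        have := (A.sys hc).card_fixedMinus hc W.card_fix_orbit (one_mem A.T.weylFix)
        rwa [pow_one, g.ninv_one, pow_zero] at this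
      rw [h3] at h2
      exact (Fact.out : p.Prime).ne_one (Nat.dvd_one.1 h2)
  exact ⟨IsPGroup.toSylow hp hidx, IsPGroup.toSylow_coe hp hidx⟩

include W in
/-- Every automorphism is inner times one fixing `U¹` and `V¹`. -/
theorem exists_fixUV (θ : MulAut ↥A.G1) :
    ∃ x : ↥A.G1, FixUV A (MulAut.conj x * θ) := by
  obtain ⟨p, hp⟩ := CharP.exists F
  haveI : Fact p.Prime := ⟨CharP.char_is_prime F p⟩
  obtain ⟨P, hP⟩ := W.exists_sylow p
  haveI : Finite ↥A.G1 := Finite.of_injective (fun y : ↥A.G1 => (y : GL D.Idx F)) Subtype.val_injective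
  let Q : Sylow p ↥A.G1 := P.mapSurjective (f := θ.toMonoidHom) θ.surjective
  obtain ⟨x, hx⟩ := MulAction.exists_smul_eq ↥A.G1 Q P
  let θ1 : MulAut ↥A.G1 := MulAut.conj x * θ
  have hθ1 : ∀ y, θ1 y ∈ U1 A ↔ y ∈ U1 A := by
    intro y
    have e : ((x • Q : Sylow p ↥A.G1) : Subgroup ↥A.G1) =
        ((P : Subgroup ↥A.G1).map θ.toMonoidHom).map (MulAut.conj x).toMonoidHom := rfl
    rw [hx, hP, Subgroup.map_map] at e
    conv_lhs => rw [e]
    exact Subgroup.mem_map_iff_mem (K := U1 A) (x := y)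
      (f := (MulAut.conj x).toMonoidHom.comp θ.toMonoidHom) θ1.injective
  obtain ⟨n1, hn1⟩ := W.exists_isLongest
  obtain ⟨v, b, n, u, hv, hb, hnm, hna, hu, hm⟩ := W.exists_canon (θ1 n1)
  have hn : IsLongest A n := W.isLongest_of_inf hv hnm hna fun y hy hy' => by
    obtain ⟨z, hz⟩ := θ1.surjective (u⁻¹ * y * u)
    have hzU : z ∈ U1 A := (hθ1 z).1 (hz ▸ mul_mem (mul_mem (inv_mem hu) hy) hu)
    have h1 : θ1 (n1 * z * n1⁻¹) ∈ U1 A := by
      rw [map_mul, map_mul, map_inv, hm, hz,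
        show b * n * u * (u⁻¹ * y * u) * (b * n * u)⁻¹ = b * (n * y * n⁻¹) * b⁻¹ by group]
      exact B1_conj_U1 A hb hy'
    have h2 := conj_eq_one_iff.1
      (B1_inf_V1 A (U1_le_B1 A ((hθ1 _).1 h1)) (hn1.conj_U1 hzU))
    rw [h2, map_one] at hz
    exact conj_eq_one_iff.1 (show u⁻¹ * y * (u⁻¹)⁻¹ = 1 by rw [inv_inv]; exact hz.symm)
  have hU2 : ∀ y, (MulAut.conj b⁻¹ * θ1) y ∈ U1 A ↔ y ∈ U1 A := fun y => by
    rw [MulAut.mul_apply, MulAut.conj_apply, B1_conj_U1_iff A (inv_mem hb), hθ1]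
  refine ⟨b⁻¹ * x, ?_⟩
  rw [show MulAut.conj (b⁻¹ * x) * θ = MulAut.conj b⁻¹ * θ1 by rw [map_mul, mul_assoc]]
  refine ⟨hU2, fun y => ?_⟩
  have e : y = n1 * (n1⁻¹ * y * n1) * n1⁻¹ := by group
  conv_lhs => rw [e]
  rw [MulAut.mul_apply, map_mul θ1, map_mul θ1, map_inv θ1, hm, MulAut.conj_apply,
    show b⁻¹ * (b * n * u * θ1 (n1⁻¹ * y * n1) * (b * n * u)⁻¹) * b⁻¹⁻¹ =
      n * (u * θ1 (n1⁻¹ * y * n1) * u⁻¹) * n⁻¹ by group,
    hn.conj_mem_V1_iff, B1_conj_U1_iff A (U1_le_B1 A hu), hθ1, hn1.inv_conj_mem_U1_iff]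

end TwData

end CfsgLib.KnownA.TwistOut
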