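import Cfsg.Agent.Lib.KnownA.TwistOut.Perm
import Cfsg.Agent.Lib.KnownA.Chev.Decompose

/-!
The parameter maps of an automorphism of a twisted group: torus relations and field automorphisms.
-/

set_option autoImplicit false

namespace CfsgLib.KnownA.TwistOut

open Cfsg.Lie CfsgLib.Chev

variable {D : ChevalleyDatum} {F : Type*} [Field F] {g : Good D}

namespace TwData

variable {A : A1Setup g F} (W : TwData A)

theorem no_conj_xo (o : Fin A.r) (c : (W.Kf o)ˣ) (t : W.Kf o) :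
    ∃ v, W.no o c * W.xo o t * (W.no o c)⁻¹ = W.yo o v := by
  refine W.Pm_inf_V1 o
    (mul_mem (mul_mem (W.no_mem_Pm o c) (W.xo_mem_Pm o o t)) (inv_mem (W.no_mem_Pm o c))) ?_
  show _ ∈ D.negUnipotent F
  rw [g.negUnipotent_eq]
  exact W.conj_xo_mem (W.acts_no o c) (T := Set.Iio (half D)) (fun j hj =>
    ((A.isOrbit o).neg _ (g.sroot_pos j) (g.suppIn_sroot j ⟨j, hj, rfl⟩)).1) t

theorem no_inv_conj_yo (o : Fin A.r) (d : (W.Kf o)ˣ) (w : W.Kf o) :
    (W.no o d)⁻¹ * W.yo o w * W.no o d ∈ U1 A := by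
  show ((W.no o d : GL D.Idx F)⁻¹ * W.yo o w * W.no o d) ∈ D.posUnipotent F
  rw [g.posUnipotent_eq]
  have h := g.conj_rootGen (g.acts_inv (W.acts_no o d))
    (S := {r | ∃ j ∈ A.orb o, (nsroot g j).val = r}) (T := Set.Ici (half D))
    (fun s hs => by
      obtain ⟨j, hj, e⟩ := hs
      rw [show s = nsroot g j from Fin.ext e.symm]
      show half D ≤ ((g.wperm (A.orb o))⁻¹ (nsroot g j)).val
      rw [show (g.wperm (A.orb o))⁻¹ = g.wperm (A.orb o) from
        inv_eq_of_mul_eq_one_right ((A.sys W.hc).w_sq o)]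
      show half D ≤ (g.wperm (A.orb o) (g.nroot (g.sroot j))).val
      rw [g.wperm_nroot, g.nroot_pos_iff]
      exact ((A.isOrbit o).neg _ (g.sroot_pos j) (g.suppIn_sroot j ⟨j, hj, rfl⟩)).1)
    (Subgroup.mem_map_of_mem _ (Subgroup.list_prod_mem _ (l := (A.orb o).map fun i =>
      g.xG (nsroot g i) (W.vec o (w : F) i)) fun x hx => by
        obtain ⟨j, hj, rfl⟩ := List.mem_map.1 hx
        exact g.mem_rootGen (Fin.isLt _) (show (nsroot g j).val ∈
          {r | ∃ i ∈ A.orb o, (nsroot g i).val = r} from ⟨j, hj, rfl⟩) _))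
  simpa [coe_yo, Good.xList] using h

/-- `x(d)` does not normalise the opposite group unless trivial. -/
theorem eq_zero_of_conj {o : Fin A.r} {d v w : W.Kf o} (hv : v ≠ 0)
    (h : W.xo o d * W.yo o v * (W.xo o d)⁻¹ = W.yo o w) : d = 0 := by
  by_contra hd
  set u : (W.Kf o)ˣ := Units.mk0 d hd with hu
  have hy : W.yo o (-((u⁻¹ : (W.Kf o)ˣ) : W.Kf o)) * W.yo o v *
      (W.yo o (-((u⁻¹ : (W.Kf o)ˣ) : W.Kf o)))⁻¹ = W.yo o v := by
    rw [← yo_neg, yo_add, yo_add]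
    congr 1
    abel
  have e : (W.no o u)⁻¹ * W.yo o w * W.no o u = (W.xo o d)⁻¹ * W.yo o v * W.xo o d := by
    rw [← h, no, show ((u : W.Kf o)) = d from rfl]
    set X := W.xo o d
    set Y := W.yo o (-((u⁻¹ : (W.Kf o)ˣ) : W.Kf o))
    set V := W.yo o v
    have hy' : Y⁻¹ * V * Y = V := by
      calc Y⁻¹ * V * Y = Y⁻¹ * (Y * V * Y⁻¹) * Y := by rw [hy]
        _ = V := by group
    calc (X * Y * X)⁻¹ * (X * V * X⁻¹) * (X * Y * X) = X⁻¹ * (Y⁻¹ * V * Y) * X := by group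
      _ = _ := by rw [hy']
  have h1 := W.no_inv_conj_yo o u w
  rw [e] at h1
  have hX : W.xo o d ∈ U1 A := W.xo_mem_U1 o d
  have h2 : W.yo o v ∈ U1 A := by
    have := mul_mem (mul_mem hX h1) (inv_mem hX)
    simpa [mul_assoc] using this
  exact hv (W.yo_injective o ((B1_inf_V1 A (U1_le_B1 A h2) (W.yo_mem_V1 o v)).trans
    (W.yo_zero o).symm))

theorem no_mul_inv (o : Fin A.r) (x y : (W.Kf o)ˣ) :
    W.no o x * (W.no o y)⁻¹ = W.ho o x * (W.ho o y)⁻¹ := by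
  rw [ho, ho]; group

theorem ho_one (o : Fin A.r) : W.ho o 1 = 1 := by rw [ho, mul_inv_cancel]

variable {θ : MulAut ↥A.G1} {π : Equiv.Perm (Fin A.r)} {a b : ∀ o, W.Kf o → W.Kf (π o)}

namespace TwMap

variable {W} (h : W.TwMap θ π a b)
include h

theorem a_add (o : Fin A.r) (s t : W.Kf o) : a o (s + t) = a o s + a o t :=
  W.xo_injective _ (by rw [← h.pos, ← W.xo_add, map_mul, h.pos, h.pos, W.xo_add])

theorem a_zero (o : Fin A.r) : a o 0 = 0 :=
  W.xo_injective _ (by rw [← h.pos, W.xo_zero, map_one, W.xo_zero])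

theorem a_injective (o : Fin A.r) : Function.Injective (a o) := fun s t e =>
  W.xo_injective _ (θ.injective (by rw [h.pos, h.pos, e]))

theorem b_zero (o : Fin A.r) : b o 0 = 0 :=
  W.yo_injective _ (by rw [← h.neg, W.yo_zero, map_one, W.yo_zero])

theorem b_injective (o : Fin A.r) : Function.Injective (b o) := fun s t e =>
  W.yo_injective _ (θ.injective (by rw [h.neg, h.neg, e]))

theorem a_ne_zero (o : Fin A.r) {t : W.Kf o} (ht : t ≠ 0) : a o t ≠ 0 := fun e =>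
  ht (h.a_injective o (e.trans (h.a_zero o).symm))

omit h in
/-- The image of a unit. -/
noncomputable def au (h : W.TwMap θ π a b) (o : Fin A.r) (t : (W.Kf o)ˣ) : (W.Kf (π o))ˣ :=
  Units.mk0 (a o t) (h.a_ne_zero o t.ne_zero)

theorem b_eq (o : Fin A.r) (t : (W.Kf o)ˣ) :
    b o (-((t⁻¹ : (W.Kf o)ˣ) : W.Kf o)) = -(((h.au o t)⁻¹ : (W.Kf (π o))ˣ) : W.Kf (π o)) := by
  set B := b o (-((t⁻¹ : (W.Kf o)ˣ) : W.Kf o)) with hB
  set Aa := a o (t : W.Kf o) with hA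
  have hBne : B ≠ 0 := fun e => by
    have := h.b_injective o (e.trans (h.b_zero o).symm)
    simp at this
  obtain ⟨C, hC⟩ : ∃ C : (W.Kf (π o))ˣ, -((C⁻¹ : (W.Kf (π o))ˣ) : W.Kf (π o)) = B :=
    ⟨(-Units.mk0 B hBne)⁻¹, by simp⟩
  have himg : θ (W.no o t) = W.xo (π o) (Aa - C) * W.no (π o) C * W.xo (π o) (Aa - C) := by
    rw [no, map_mul, map_mul, h.pos, h.neg, ← hA, ← hB, ← hC, no,
      show W.xo (π o) Aa = W.xo (π o) (Aa - C) * W.xo (π o) (C : W.Kf (π o)) by rw [W.xo_add, sub_add_cancel]]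
    simp only [mul_assoc]
    rw [show W.xo (π o) (Aa - C) * W.xo (π o) (C : W.Kf (π o)) = W.xo (π o) (C : W.Kf (π o)) * W.xo (π o) (Aa - C) by
      rw [W.xo_add, W.xo_add, add_comm]]
  obtain ⟨v0, hv0⟩ := W.no_conj_xo o t 1
  obtain ⟨v, hv⟩ := W.no_conj_xo (π o) C (a o 1)
  have h1 := congrArg θ hv0
  rw [map_mul, map_mul, map_inv, h.pos, h.neg, himg] at h1
  have e : W.xo (π o) (Aa - C) * W.no (π o) C * W.xo (π o) (Aa - C) * W.xo (π o) (a o 1) *
      (W.xo (π o) (Aa - C) * W.no (π o) C * W.xo (π o) (Aa - C))⁻¹ =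
      W.xo (π o) (Aa - C) * (W.no (π o) C * W.xo (π o) (a o 1) * (W.no (π o) C)⁻¹) * (W.xo (π o) (Aa - C))⁻¹ := by
    have hcomm : W.xo (π o) (Aa - C) * W.xo (π o) (a o 1) * (W.xo (π o) (Aa - C))⁻¹ = W.xo (π o) (a o 1) := by
      rw [← W.xo_neg, W.xo_add, W.xo_add]; congr 1; abel
    conv_rhs => rw [← hcomm]
    group
  rw [e, hv] at h1
  have hvne : v ≠ 0 := fun hv' => by
    rw [hv', W.yo_zero, conj_eq_one_iff, ← W.xo_zero (π o)] at hv
    exact h.a_ne_zero o one_ne_zero (W.xo_injective (π o) hv)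
  have h2 := W.eq_zero_of_conj hvne h1
  rw [sub_eq_zero] at h2
  have : C = h.au o t := Units.ext h2.symm
  rw [← this, hC]

theorem map_no (o : Fin A.r) (t : (W.Kf o)ˣ) : θ (W.no o t) = W.no (π o) (h.au o t) := by
  rw [no, map_mul, map_mul, h.pos, h.neg, h.b_eq, no]
  rfl

theorem au_one (h1 : ∀ o, a o 1 = 1) (o : Fin A.r) : h.au o 1 = 1 := Units.ext (h1 o)

theorem map_ho (h1 : ∀ o, a o 1 = 1) (o : Fin A.r) (t : (W.Kf o)ˣ) :
    θ (W.ho o t) = W.ho (π o) (h.au o t) := by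
  rw [ho, map_mul, map_inv, h.map_no, h.map_no, h.au_one h1, ho]

/-- The relation from the torus. -/
theorem torus_rel (h1 : ∀ o, a o 1 = 1) (o o' : Fin A.r) (c : (W.Kf o)ˣ) (t u : W.Kf o')
    (hu : (u : F) = W.chi o o' c * t) :
    (a o' u : F) = W.chi (π o) (π o') (h.au o c) * (a o' t : F) := by
  obtain ⟨u0, hu0, he⟩ := W.ho_conj o o' c t
  obtain rfl : u0 = u := Subtype.ext (hu0.trans hu.symm)
  obtain ⟨u1, hu1, he1⟩ := W.ho_conj (π o) (π o') (h.au o c) (a o' t)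
  have h2 := congrArg θ he
  rw [map_mul, map_mul, map_inv, h.pos, h.pos, h.map_ho h1, he1] at h2
  rw [← W.xo_injective _ h2, hu1]

/-- Commuting orbit reflections go to commuting ones. -/
theorem wperm_comm {o o' : Fin A.r}
    (hw : g.wperm (A.orb o) * g.wperm (A.orb o') = g.wperm (A.orb o') * g.wperm (A.orb o))
    (hθ : FixUV A θ) :
    g.wperm (A.orb (π o)) * g.wperm (A.orb (π o')) =
      g.wperm (A.orb (π o')) * g.wperm (A.orb (π o)) := by
  set x := W.no o 1 * W.no o' 1 * (W.no o 1)⁻¹ * (W.no o' 1)⁻¹ with hx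
  set y := W.no (π o) (h.au o 1) * W.no (π o') (h.au o' 1) * (W.no (π o) (h.au o 1))⁻¹ *
    (W.no (π o') (h.au o' 1))⁻¹ with hy
  have hacts : ∀ (p p' : Fin A.r) (c : (W.Kf p)ˣ) (c' : (W.Kf p')ˣ),
      g.Acts ((W.no p c * W.no p' c' * (W.no p c)⁻¹ * (W.no p' c')⁻¹ : ↥A.G1) : GL D.Idx F)
        (g.wperm (A.orb p) * g.wperm (A.orb p') * (g.wperm (A.orb p))⁻¹ *
          (g.wperm (A.orb p'))⁻¹) := by
    intro p p' c c'
    simp only [Subgroup.coe_mul, Subgroup.coe_inv]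
    exact g.acts_mul (g.acts_mul (g.acts_mul (W.acts_no p c) (W.acts_no p' c'))
      (g.acts_inv (W.acts_no p c))) (g.acts_inv (W.acts_no p' c'))
  have hmon : ∀ (p : Fin A.r) (c : (W.Kf p)ˣ),
      (W.no p c : GL D.Idx F) ∈ D.monomialSubgroup F := fun p c => by
    rw [coe_no]
    exact mul_mem (Subgroup.mem_sup_left (W.hG0_mem_diagonal p c)) (g.wordN_mem _)
  have hmon' : ∀ (p p' : Fin A.r) (c : (W.Kf p)ˣ) (c' : (W.Kf p')ˣ),
      ((W.no p c * W.no p' c' * (W.no p c)⁻¹ * (W.no p' c')⁻¹ : ↥A.G1) : GL D.Idx F) ∈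
        D.monomialSubgroup F := fun p p' c c' => by
    simp only [Subgroup.coe_mul, Subgroup.coe_inv]
    exact mul_mem (mul_mem (mul_mem (hmon p c) (hmon p' c')) (inv_mem (hmon p c)))
      (inv_mem (hmon p' c'))
  have hxd : (x : GL D.Idx F) ∈ D.diagonalSubgroup F := by
    have ha := hacts o o' 1 1
    rw [hw, mul_inv_cancel_right, mul_inv_cancel] at ha
    have := g.monomial_same_acts (hmon' o o' 1 1) (one_mem _) ha g.acts_one
    simpa [hx] using this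
  have hxy : θ x = y := by
    rw [hx, map_mul, map_mul, map_mul, map_inv, map_inv, h.map_no, h.map_no]
  have hyB : y ∈ B1 A := hxy ▸ (W.memB1 hθ x).2 (Subgroup.mem_sup_right hxd)
  have hyd : (y : GL D.Idx F) ∈ D.diagonalSubgroup F := by
    rw [← g.borel_inf_monomial]
    exact ⟨hyB, hmon' _ _ _ _⟩
  have h3 := g.acts_unique (hacts _ _ _ _) (g.acts_diagonal hyd)
  rw [mul_inv_eq_one, mul_inv_eq_iff_eq_mul] at h3
  exact h3

variable [Finite F]

theorem card_Kf_le (o : Fin A.r) : W.q ^ W.k o ≤ W.q ^ W.k (π o) := by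
  have hcard : ∀ p, Nat.card (W.Kf p) = W.q ^ W.k p := fun p => by
    rw [← W.hcard p]
    exact Nat.card_congr (Equiv.subtypeEquivRight fun c => W.mem_Kf)
  rw [← hcard, ← hcard]
  exact Nat.card_le_card_of_injective _ (h.a_injective o)

theorem k_eq (o : Fin A.r) : W.k (π o) = W.k o := by
  have hle : ∀ p, W.k p ≤ W.k (π p) := fun p =>
    (Nat.pow_le_pow_iff_right W.q_gt).1 (h.card_Kf_le p)
  have hsum : ∑ p, W.k p = ∑ p, W.k (π p) := (Equiv.sum_comp π W.k).symm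
  exact ((Finset.sum_eq_sum_iff_of_le fun p _ => hle p).1 hsum o (Finset.mem_univ o)).symm

theorem a_bijective (o : Fin A.r) : Function.Bijective (a o) := by
  refine (Nat.bijective_iff_injective_and_card _).2 ⟨h.a_injective o, ?_⟩
  have hcard : ∀ p, Nat.card (W.Kf p) = W.q ^ W.k p := fun p => by
    rw [← W.hcard p]
    exact Nat.card_congr (Equiv.subtypeEquivRight fun c => W.mem_Kf)
  rw [hcard, hcard, h.k_eq]

end TwMap

theorem chi_eq {o o' : Fin A.r}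
    (hz : ∀ i ∈ A.orb o, i ≠ W.b o → D.cartan i (g.sroot (W.b o')) = 0) (c : (W.Kf o)ˣ) :
    W.chi o o' c = ((c : W.Kf o) : F) ^ D.cartan (W.b o) (g.sroot (W.b o')) := by
  rw [chi, Finset.prod_eq_single (W.b o)]
  · rw [Units.val_zpow_eq_zpow_val, vecU_apply, vec_base]
  · intro i _ hi
    by_cases hio : i ∈ A.orb o
    · rw [hz i hio hi, zpow_zero]
    · rw [W.vecU_outside o c hio, one_zpow]
  · simp

/-- The node `o` determines, and is determined by, the field automorphism of `o'`. -/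
def Link (o o' : Fin A.r) : Prop :=
  (∀ i ∈ A.orb o, i ≠ W.b o → D.cartan i (g.sroot (W.b o')) = 0) ∧
    D.cartan (W.b o) (g.sroot (W.b o')) = -1

section Field

variable [Finite F] {a1 b1 : ∀ o, W.Kf o → W.Kf o}

theorem torus_rel_one (h : W.TwMap θ 1 a1 b1) (h1 : ∀ p, a1 p 1 = 1) (o o' : Fin A.r)
    (c : (W.Kf o)ˣ) (t u : W.Kf o') (hu : (u : F) = W.chi o o' c * t) :
    (a1 o' u : F) =
      W.chi o o' (Units.mk0 (a1 o c) (h.a_ne_zero o c.ne_zero)) * (a1 o' t : F) :=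
  h.torus_rel h1 o o' c t u hu

theorem agree {o o' : Fin A.r} (hl : W.Link o o') (h : W.TwMap θ 1 a1 b1)
    (h1 : ∀ p, a1 p 1 = 1) {σ : F ≃+* F} (hσ : ∀ t, (a1 o' t : F) = σ t) (t : W.Kf o) :
    (a1 o t : F) = σ t := by
  by_cases ht : t = 0
  · subst ht
    rw [h.a_zero o]
    exact (map_zero σ).symm
  obtain ⟨u, hu, -⟩ := W.ho_conj o o' (Units.mk0 t ht) 1
  have h2 := W.torus_rel_one h h1 o o' (Units.mk0 t ht) 1 u hu
  rw [hσ, hu, W.chi_eq hl.1, W.chi_eq hl.1, hl.2, h1] at h2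
  change σ ((t : F) ^ (-1 : ℤ) * 1) = (a1 o t : F) ^ (-1 : ℤ) * 1 at h2
  rw [mul_one, mul_one, zpow_neg_one, zpow_neg_one, map_inv₀, inv_inj] at h2
  exact h2.symm

theorem exists_sigma (o₀ : Fin A.r) (htop : ∀ c : F, c ∈ W.Kf o₀)
    (hz : ∀ i ∈ A.orb o₀, i ≠ W.b o₀ → D.cartan i (g.sroot (W.b o₀)) = 0)
    (h : W.TwMap θ 1 a1 b1) (h1 : ∀ p, a1 p 1 = 1) :
    ∃ σ : F ≃+* F, ∀ t, (a1 o₀ t : F) = σ t := by
  let f : F → F := fun c => (a1 o₀ ⟨c, htop c⟩ : F)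
  have hb := h.a_bijective o₀
  have hbij : Function.Bijective f := ⟨fun s t e =>
      congrArg Subtype.val (hb.1 (Subtype.ext e)), fun t => by
    obtain ⟨s, hs⟩ := hb.2 ⟨t, htop t⟩
    exact ⟨s.1, congrArg Subtype.val hs⟩⟩
  obtain ⟨σ, hσ⟩ := CfsgLib.KnownA.Chev.exists_ringEquiv hbij
    (congrArg Subtype.val (h1 o₀))
    (fun s t => congrArg Subtype.val (h.a_add o₀ ⟨s, htop s⟩ ⟨t, htop t⟩))
    (fun c t => by
      have hc2 : D.cartan (W.b o₀) (g.sroot (W.b o₀)) = 2 := g.cartan_simple (W.b o₀).2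
      by_cases hc : c = 0
      · subst hc
        have e : f 0 = 0 := congrArg Subtype.val (h.a_zero o₀)
        simp [e]
      let cu : (W.Kf o₀)ˣ := Units.mk0 ⟨c, htop c⟩ fun e => hc (congrArg Subtype.val e)
      have h2 := W.torus_rel_one h h1 o₀ o₀ cu ⟨t, htop t⟩ ⟨c ^ 2 * t, htop _⟩
        (by rw [W.chi_eq hz, hc2, zpow_ofNat]; rfl)
      rw [W.chi_eq hz, hc2, zpow_ofNat] at h2
      exact h2)
  exact ⟨σ, fun t => (hσ t.1).symm⟩

end Field

end TwData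

end CfsgLib.KnownA.TwistOut
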