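import Cfsg.Agent.Lib.KnownA.TwistOut.Fix
import Cfsg.Agent.Lib.Chev.BNParabolic
import Cfsg.Agent.Lib.KnownA.Chev.Gen

/-!
An automorphism fixing `U¹` and `V¹` permutes the root groups of the orbits.
-/

set_option autoImplicit false

namespace CfsgLib.KnownA.TwistOut

open Cfsg.Lie CfsgLib.Chev

variable {D : ChevalleyDatum} {F : Type*} [Field F] {g : Good D}

section Params

variable {A : A1Setup g F} (W : TwData A)

/-- The minimal parabolic subgroup of an orbit. -/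
def Pm (A : A1Setup g F) (o : Fin A.r) : Subgroup ↥A.G1 :=
  (D.parabolicSubgroup F {i : ℕ | ∃ j ∈ A.orb o, (j : ℕ) = i}).subgroupOf A.G1

theorem B1_le_Pm (o : Fin A.r) : B1 A ≤ Pm A o := fun _ hx => Subgroup.mem_sup_left hx

namespace TwData

include W in
theorem wperm_ne_one (o : Fin A.r) : g.wperm (A.orb o) ≠ 1 := fun h => by
  have h1 := ((A.isOrbit o).neg _ (g.sroot_pos (W.b o))
    (g.suppIn_sroot (J := {i : ℕ | ∃ j ∈ A.orb o, (j : ℕ) = i}) (W.b o) ⟨_, W.hb o, rfl⟩)).1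
  rw [h, Equiv.Perm.one_apply] at h1
  have := g.sroot_pos (W.b o)
  omega

theorem hG0_mem_diagonal (o : Fin A.r) (c : (W.Kf o)ˣ) : W.hG0 o c ∈ D.diagonalSubgroup F :=
  g.torHom_mem _

theorem ho_mem_B1 (o : Fin A.r) (c : (W.Kf o)ˣ) : W.ho o c ∈ B1 A := by
  show (W.ho o c : GL D.Idx F) ∈ D.borelSubgroup F
  rw [coe_ho]
  exact Subgroup.mem_sup_right (W.hG0_mem_diagonal o c)

theorem no_mem_Pm (o : Fin A.r) (c : (W.Kf o)ˣ) : W.no o c ∈ Pm A o := by
  show (W.no o c : GL D.Idx F) ∈ D.parabolicSubgroup F _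
  rw [coe_no]
  exact mul_mem (Subgroup.mem_sup_left (Subgroup.mem_sup_right (W.hG0_mem_diagonal o c)))
    ((A.sys W.hc).n_mem_parabolic o)

theorem xo_mem_Pm (o o' : Fin A.r) (c : W.Kf o) : W.xo o c ∈ Pm A o' :=
  B1_le_Pm o' (U1_le_B1 A (W.xo_mem_U1 o c))

theorem yo_mem_Pm (o : Fin A.r) (c : W.Kf o) : W.yo o c ∈ Pm A o := by
  by_cases hc : c = 0
  · rw [hc, yo_zero]; exact one_mem _
  obtain ⟨d, rfl⟩ : ∃ d : (W.Kf o)ˣ, -((d⁻¹ : (W.Kf o)ˣ) : W.Kf o) = c :=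
    ⟨(-Units.mk0 c hc)⁻¹, by simp⟩
  have e : W.yo o (-((d⁻¹ : (W.Kf o)ˣ) : W.Kf o)) =
      (W.xo o d)⁻¹ * W.no o d * (W.xo o d)⁻¹ := by
    rw [no]; group
  rw [e]
  exact mul_mem (mul_mem (inv_mem (W.xo_mem_Pm o o _)) (W.no_mem_Pm o d))
    (inv_mem (W.xo_mem_Pm o o _))

include W in
theorem Pm_cases (o : Fin A.r) {z : ↥A.G1} (hz : z ∈ Pm A o) :
    z ∈ B1 A ∨ ∃ b ∈ B1 A, ∃ t, z = b * W.no o 1 * W.xo o t := by
  rcases (A.sys W.hc).rank_one W.hc o z.2 hz with h | ⟨b, hb, u, hu, he⟩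
  · exact Or.inl h.1
  · obtain ⟨t, ht, rfl⟩ := (A.mem_fixedMinus W.hc o).1 hu
    obtain ⟨c, hc⟩ := W.compat_vec ht
    refine Or.inr ⟨⟨b, hb.2⟩, hb.1, c, Subtype.ext ?_⟩
    rw [he, Subgroup.coe_mul, Subgroup.coe_mul, coe_no_one, coe_xo, g.xList_congr hc]
    rfl

theorem no_mem_Pm_iff (o o' : Fin A.r) : W.no o' 1 ∈ Pm A o ↔ o' = o := by
  refine ⟨fun h => ?_, fun h => h ▸ W.no_mem_Pm o' 1⟩
  have hacts := W.acts_no o' 1
  have hmon : ∀ p, (W.no p 1 : GL D.Idx F) ∈ D.monomialSubgroup F := fun p => by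
    rw [coe_no_one]; exact g.wordN_mem _
  rcases W.Pm_cases o h with hB | ⟨b, hb, t, he⟩
  · exfalso
    have h1 : (W.no o' 1 : GL D.Idx F) ∈ D.diagonalSubgroup F := by
      rw [← g.borel_inf_monomial]
      exact ⟨hB, hmon o'⟩
    exact W.wperm_ne_one o' (g.acts_unique hacts (g.acts_diagonal h1))
  · have e : (1 : GL D.Idx F) * (W.no o' 1 : GL D.Idx F) * 1 =
        (b : GL D.Idx F) * (W.no o 1 : GL D.Idx F) * (W.xo o t : GL D.Idx F) := by
      rw [one_mul, mul_one, he]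
      rfl
    have h1 := g.canonical_coset W.hc (one_mem _) hb (hmon o') (hmon o) (one_mem _)
      (U1_le_B1 A (W.xo_mem_U1 o t)) e
    have h2 := g.acts_unique (g.acts_mul (g.acts_inv hacts) (W.acts_no o 1)) (g.acts_diagonal h1)
    exact (A.sys W.hc).w_inj (inv_mul_eq_one.1 h2)

theorem Pm_inf_V1 (o : Fin A.r) {z : ↥A.G1} (hP : z ∈ Pm A o) (hV : z ∈ V1 A) :
    ∃ c, z = W.yo o c := by
  rcases W.Pm_cases o hP with hB | ⟨b, hb, t, he⟩
  · exact ⟨0, by rw [yo_zero]; exact B1_inf_V1 A hB hV⟩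
  by_cases ht : t = 0
  · exfalso
    rw [ht, xo_zero, mul_one] at he
    obtain ⟨n, hn⟩ := W.exists_isLongest
    obtain ⟨hnm, w, -, hw, -⟩ := id hn
    have hu : n⁻¹ * z * n ∈ U1 A := hn.inv_conj_V1 hV
    have hmon : (W.no o 1 : GL D.Idx F) ∈ D.monomialSubgroup F := by
      rw [coe_no_one]; exact g.wordN_mem _
    have e : (b : GL D.Idx F) * ((W.no o 1 : GL D.Idx F) * n) * 1 =
        1 * (n : GL D.Idx F) * ((n⁻¹ * z * n : ↥A.G1) : GL D.Idx F) := by
      rw [he]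
      simp only [Subgroup.coe_mul, Subgroup.coe_inv]
      group
    have h1 := g.canonical_coset W.hc hb (one_mem _) (mul_mem hmon hnm) hnm (one_mem _)
      (U1_le_B1 A hu) e
    have h2 := g.acts_unique (g.acts_mul (g.acts_inv (g.acts_mul (W.acts_no o 1) hw)) hw)
      (g.acts_diagonal h1)
    rw [inv_mul_eq_one, mul_eq_right] at h2
    exact W.wperm_ne_one o h2
  · refine ⟨(((Units.mk0 t ht)⁻¹ : (W.Kf o)ˣ) : W.Kf o), ?_⟩
    set d : (W.Kf o)ˣ := Units.mk0 t ht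
    have hid : W.yo o ((d⁻¹ : (W.Kf o)ˣ) : W.Kf o) =
        W.xo o t * W.ho o (-d) * W.no o 1 * W.xo o t := by
      have e1 : W.xo o t * W.ho o (-d) * W.no o 1 * W.xo o t =
          W.xo o t * W.no o (-d) * W.xo o t := by rw [ho]; group
      rw [e1, no]
      simp only [inv_neg, Units.val_neg, neg_neg, Units.val_mk0, d, xo_neg]
      group
    have hz : z * (W.yo o ((d⁻¹ : (W.Kf o)ˣ) : W.Kf o))⁻¹ = b * (W.ho o (-d))⁻¹ * (W.xo o t)⁻¹ := by
      rw [he, hid]; group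
    have hB : z * (W.yo o ((d⁻¹ : (W.Kf o)ˣ) : W.Kf o))⁻¹ ∈ B1 A := by
      rw [hz]
      exact mul_mem (mul_mem hb (inv_mem (W.ho_mem_B1 o _)))
        (inv_mem (U1_le_B1 A (W.xo_mem_U1 o t)))
    exact mul_inv_eq_one.1 (B1_inf_V1 A hB (mul_mem hV (inv_mem (W.yo_mem_V1 o _))))

theorem not_commute (o : Fin A.r) : ¬ Commute (W.xo o 1) (W.yo o (-1)) := fun h => by
  have hn : Commute (W.no o 1) (W.xo o 1) := by
    have e : W.no o 1 = W.xo o 1 * W.yo o (-1) * W.xo o 1 := by simp [no]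
    rw [e]
    exact ((Commute.refl _).mul_left h.symm).mul_left (Commute.refl _)
  refine W.xo_one_ne o ?_
  have h1 : W.no o 1 * W.xo o 1 * (W.no o 1)⁻¹ = W.xo o 1 := by
    rw [hn.eq, mul_inv_cancel_right]
  have h2 : W.xo o 1 ∈ V1 A := by
    rw [← h1]
    show _ ∈ D.negUnipotent F
    rw [g.negUnipotent_eq]
    exact W.conj_xo_mem (W.acts_no o 1) (T := Set.Iio (half D)) (fun j hj =>
      ((A.isOrbit o).neg _ (g.sroot_pos j) (g.suppIn_sroot j ⟨j, hj, rfl⟩)).1) 1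
  exact B1_inf_V1 A (U1_le_B1 A (W.xo_mem_U1 o 1)) h2

theorem commute_xo_yo {o o' : Fin A.r} (hne : o ≠ o') (c : W.Kf o) (d : W.Kf o') :
    Commute (W.xo o c) (W.yo o' d) := by
  refine Subtype.ext ?_
  show (W.xo o c : GL D.Idx F) * (W.yo o' d : GL D.Idx F) = _
  have h1 : ∀ i ∈ A.orb o, ∀ j ∈ A.orb o', ∀ t u : F,
      Commute (g.xG (g.sroot i) t) (g.xG (nsroot g j) u) := by
    intro i hi j hj t u
    have hij : i ≠ j := fun e => hne (A.disjoint o o' i hi (e ▸ hj))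
    have hr := g.simple_lt i.2
    have hs' := g.neg_lt (g.simple_lt j.2)
    have hrs : D.simple i ≠ D.neg (D.simple j) := fun h => by
      have h1 := g.simple_pos i.2
      have h2 := g.nroot_sroot_neg j
      have : (g.nroot (g.sroot j)).val = D.neg (D.simple j) := rfl
      omega
    have hneg : D.simple i ≠ D.neg (D.neg (D.simple j)) := by
      rw [g.neg_neg (g.simple_lt j.2)]
      exact fun h => hij (Fin.ext (g.simple_injective i.2 j.2 h))
    have h := g.xG_conj W.hc hr hs' hrs hneg t u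
    suffices hnil : D.commTerms (D.neg (D.simple j)) (D.simple i) = [] by
      rw [hnil, List.map_nil, List.prod_nil, mul_one, mul_inv_eq_iff_eq_mul] at h
      exact h.symm
    refine List.eq_nil_iff_forall_not_mem.2 fun k hk => ?_
    obtain ⟨h1, h2, h3, h4⟩ := g.commTerms_co W.hc hs' hr k hk
    have hi' := h4 i i.2
    have hj' := h4 j j.2
    rw [g.co_neg (g.simple_lt j.2) i.2, g.co_simple j.2 i.2, g.co_simple i.2 i.2,
      if_neg (fun e => hij (Fin.ext e).symm), if_pos rfl] at hi'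
    rw [g.co_neg (g.simple_lt j.2) j.2, g.co_simple j.2 j.2, g.co_simple i.2 j.2,
      if_neg (fun e => hij (Fin.ext e)), if_pos rfl] at hj'
    by_cases hp : half D ≤ k.1
    · have := g.co_nonneg h1 hp j.2
      omega
    · have h5 := g.co_nonneg (g.neg_lt h1) ((g.nroot_pos_iff ⟨k.1, h1⟩).2 (not_le.1 hp)) i.2
      rw [g.co_neg h1 i.2] at h5
      omega
  exact (g.xList_commute (fun j hj u => (g.xList_commute (fun i hi v =>
    (h1 i hi j hj v u).symm) _).symm) _).eq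

theorem orbit_of_xo {o o' : Fin A.r} {c : W.Kf o} {d : W.Kf o'} (hc : c ≠ 0)
    (h : W.xo o c = W.xo o' d) : o = o' := by
  by_contra hne
  refine hc (W.xo_injective o ?_)
  have h1 : (W.xo o c : GL D.Idx F) ∈ rootGen D F (minusSet (g.wperm (A.orb o))) :=
    ((A.isOrbit o).mem_minus W.hc).2 ⟨_, rfl⟩
  have h2 : (W.xo o c : GL D.Idx F) ∈ rootGen D F (minusSet (g.wperm (A.orb o'))) := by
    rw [h]; exact ((A.isOrbit o').mem_minus W.hc).2 ⟨_, rfl⟩
  -- the reflection of `o` sends the second group into `U`, the first into `V`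
  have h3 : W.no o 1 * W.xo o c * (W.no o 1)⁻¹ ∈ V1 A := g.conj_minus_le (W.acts_no o 1) h1
  have h4 : W.no o 1 * W.xo o c * (W.no o 1)⁻¹ ∈ U1 A := by
    rw [h]
    show _ ∈ D.posUnipotent F
    rw [g.posUnipotent_eq]
    refine W.conj_xo_mem (W.acts_no o 1) (T := Set.Ici (half D)) (fun j hj => ?_) d
    refine g.pos_of_not_supp (g.wperm_mem_wJ (J := {i : ℕ | ∃ l ∈ A.orb o, (l : ℕ) = i})
      fun i hi => ⟨i, hi, rfl⟩) (g.sroot_pos j) fun hs => ?_
    obtain ⟨-, i, hi, e⟩ := (A.isOrbit o).neg _ (g.sroot_pos j) hs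
    exact hne (A.disjoint o o' i hi (g.sroot_injective e ▸ hj))
  rw [xo_zero]
  exact conj_eq_one_iff.1 (B1_inf_V1 A (U1_le_B1 A h4) h3)

theorem hnt (o : Fin A.r) : A.T.fixedMinus ((A.sys W.hc).w o) ≠ ⊥ := fun h => by
  have hmem : (W.xo o 1 : GL D.Idx F) ∈ A.T.fixedMinus (g.wperm (A.orb o)) :=
    Subgroup.mem_inf.2 ⟨A.G1_le_fixed W.hc (W.xo o 1).2,
      ((A.isOrbit o).mem_minus W.hc).2 ⟨_, rfl⟩⟩
  rw [show A.T.fixedMinus (g.wperm (A.orb o)) = ⊥ from h, Subgroup.mem_bot] at hmem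
  exact W.xo_one_ne o (Subtype.ext hmem)

/-- The `(B, N)`-pair. -/
noncomputable def bn : Cfsg.BNPair ↥A.G1 := (A.sys W.hc).bnPair W.hc W.hnt

theorem bn_B : (W.bn).B = B1 A := Subgroup.inf_subgroupOf_right _ _

theorem mem_bn_S {s : ↥A.G1} : s ∈ (W.bn).S ↔ ∃ o, s = W.no o 1 := by
  constructor
  · rintro ⟨o, rfl⟩
    exact ⟨o, Subtype.ext (W.coe_no_one o).symm⟩
  · rintro ⟨o, rfl⟩
    exact ⟨o, Subtype.ext (W.coe_no_one o).symm⟩

theorem Pm_le {o : Fin A.r} {M : Subgroup ↥A.G1} (hB : B1 A ≤ M) (hn : W.no o 1 ∈ M) :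
    Pm A o ≤ M := by
  intro z hz
  rcases W.Pm_cases o hz with h | ⟨b, hb, t, rfl⟩
  · exact hB h
  · exact mul_mem (mul_mem (hB hb) hn) (hB (U1_le_B1 A (W.xo_mem_U1 o t)))

theorem exists_node {M : Subgroup ↥A.G1} (hB : B1 A ≤ M) (hM : ¬ M ≤ B1 A) :
    ∃ o, W.no o 1 ∈ M := by
  by_contra hne
  refine hM ?_
  rw [BN.eq_parabolic W.bn (M := M) (W.bn_B ▸ hB)]
  refine BN.parabolic_le W.bn (W.bn_B.le) ?_
  rintro s ⟨hs, hsM⟩
  obtain ⟨o, rfl⟩ := W.mem_bn_S.1 hs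
  exact absurd ⟨o, hsM⟩ hne

include W in
theorem memB1 {θ : MulAut ↥A.G1} (hθ : FixUV A θ) (x : ↥A.G1) : θ x ∈ B1 A ↔ x ∈ B1 A := by
  constructor
  · intro h
    refine W.mem_B1_of_normalizes fun u hu => ?_
    rw [← hθ.memU, map_mul, map_mul, map_inv]
    exact B1_conj_U1 A h ((hθ.memU u).2 hu)
  · intro h
    refine W.mem_B1_of_normalizes fun u hu => ?_
    obtain ⟨v, rfl⟩ := θ.surjective u
    rw [← map_inv, ← map_mul, ← map_mul, hθ.memU]
    exact B1_conj_U1 A h ((hθ.memU v).1 hu)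

include W in
/-- Minimal parabolic subgroups are permuted. -/
theorem exists_perm {θ : MulAut ↥A.G1} (hθ : FixUV A θ) :
    ∃ π : Equiv.Perm (Fin A.r), ∀ o x, θ x ∈ Pm A (π o) ↔ x ∈ Pm A o := by
  have key : ∀ {θ : MulAut ↥A.G1}, FixUV A θ → ∀ o, ∃ p, ∀ x, θ x ∈ Pm A p → x ∈ Pm A o := by
    intro θ hθ o
    let M : Subgroup ↥A.G1 := (Pm A o).comap (θ⁻¹ : MulAut ↥A.G1).toMonoidHom
    have hB : B1 A ≤ M := fun x hx => B1_le_Pm o ((W.memB1 hθ.inv x).2 hx)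
    obtain ⟨p, hp⟩ := W.exists_node hB fun hle => by
      have h1 : θ (W.no o 1) ∈ B1 A := hle (by
        show θ⁻¹ (θ (W.no o 1)) ∈ Pm A o
        rw [MulAut.inv_apply_self]; exact W.no_mem_Pm o 1)
      have h2 : W.no o 1 ∈ B1 A := (W.memB1 hθ _).1 h1
      have h3 : (W.no o 1 : GL D.Idx F) ∈ D.diagonalSubgroup F := by
        rw [← g.borel_inf_monomial]
        exact ⟨h2, by rw [coe_no_one]; exact g.wordN_mem _⟩
      exact W.wperm_ne_one o (g.acts_unique (W.acts_no o 1) (g.acts_diagonal h3))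
    refine ⟨p, fun x hx => ?_⟩
    have := W.Pm_le hB hp hx
    show x ∈ Pm A o
    simpa using (show θ⁻¹ (θ x) ∈ Pm A o from this)
  choose f hf using key hθ
  choose f' hf' using key hθ.inv
  have heq : ∀ o, f' (f o) = o := by
    intro o
    have hle : Pm A (f' (f o)) ≤ Pm A o := fun x hx => by
      have h1 : θ x ∈ Pm A (f o) := hf' (f o) (θ x) (by rwa [MulAut.inv_apply_self])
      exact hf o x h1
    exact (W.no_mem_Pm_iff o _).1 (hle (W.no_mem_Pm _ 1))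
  have hinj : Function.Injective f := fun a c h => by rw [← heq a, h, heq]
  refine ⟨Equiv.ofBijective f ⟨hinj, Finite.injective_iff_surjective.1 hinj⟩, fun o x => ?_⟩
  refine ⟨hf o x, fun hx => hf' (f o) (θ x) ?_⟩
  rw [MulAut.inv_apply_self, heq]
  exact hx

include W in
/-- The longest element carries the orbit groups to those of the opposite sign. -/
theorem longest_orbit {n : ↥A.G1} (hn : IsLongest A n) :
    (∀ o, ∃ p, ∀ c : W.Kf o, ∃ d, n * W.yo o c * n⁻¹ = W.xo p d) ∧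
      ∀ p, ∃ o, ∀ d : W.Kf p, ∃ c, n⁻¹ * W.xo p d * n = W.yo o c := by
  obtain ⟨-, w, hwF, hw, hneg⟩ := id hn
  have hwW := (A.T.mem_weylFix.1 hwF).1
  have hw0 : CfsgLib.KnownA.Chev.w0 g = w := by
    have hmem : (CfsgLib.KnownA.Chev.w0 g)⁻¹ * w ∈ g.weyl :=
      mul_mem (inv_mem (g.wperm_mem _)) hwW
    refine inv_mul_eq_one.1 (g.eq_one_of_pos hmem fun a ha => ?_)
    rw [Equiv.Perm.mul_apply]
    exact weylFix_inv_eq (g.wperm_mem _) (fun b hb => CfsgLib.KnownA.Chev.w0_neg g hb) (hneg a ha)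
  choose τ hτ using fun i : Fin D.rank => CfsgLib.KnownA.Chev.exists_w0_sroot g i
  rw [hw0] at hτ
  have hτinj : Function.Injective τ := fun a c h => g.sroot_injective (by
    have := w.injective ((hτ a).trans ((congrArg g.sroot h).trans (hτ c).symm))
    rw [← g.nroot_nroot (g.sroot a), this, g.nroot_nroot])
  let τe : Fin D.rank ≃ Fin D.rank :=
    Equiv.ofBijective τ ⟨hτinj, Finite.injective_iff_surjective.1 hτinj⟩
  have hτpi : ∀ i, τ (A.S.pi i) = A.S.pi (τ i) := fun i => g.sroot_injective (by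
    rw [← hτ, ← A.ρ_nsroot, ← Equiv.Perm.mul_apply, ← (A.T.mem_weylFix.1 hwF).2,
      Equiv.Perm.mul_apply, hτ, A.ρ_sroot'])
  have hτpi' : ∀ i, τe.symm (A.S.pi i) = A.S.pi (τe.symm i) := fun i => τe.injective (by
    rw [τe.apply_symm_apply]
    show A.S.pi i = τ (A.S.pi (τe.symm i))
    rw [hτpi, show τ (τe.symm i) = i from τe.apply_symm_apply i])
  constructor
  · intro o
    obtain ⟨p, hp⟩ := A.cover (τ (W.b o))
    have hall : ∀ j ∈ A.orb o, τ j ∈ A.orb p :=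
      (A.isOrbit o).trans (fun j => τ j ∈ A.orb p) (fun j hj => by
        show τ (A.S.pi j) ∈ A.orb p
        rw [hτpi]; exact (A.isOrbit p).pi_mem _ hj) (W.b o) (W.hb o) hp
    refine ⟨p, fun c => ?_⟩
    have hmem : ((n * W.yo o c * n⁻¹ : ↥A.G1) : GL D.Idx F) ∈
        rootGen D F {r | ∃ i ∈ A.orb p, (g.sroot i).val = r} := by
      refine g.conj_rootGen hw (S := {r | ∃ j ∈ A.orb o, (nsroot g j).val = r}) ?_
        (Subgroup.mem_map_of_mem _ (Subgroup.list_prod_mem _ fun x hx => ?_))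
      · rintro s ⟨j, hj, e⟩
        rw [show s = nsroot g j from Fin.ext e.symm, hτ]
        exact ⟨_, hall j hj, rfl⟩
      · obtain ⟨j, hj, rfl⟩ := List.mem_map.1 hx
        exact g.mem_rootGen (Fin.isLt _) (show (nsroot g j).val ∈
          {r | ∃ i ∈ A.orb o, (nsroot g i).val = r} from ⟨j, hj, rfl⟩) _
    rw [← (A.isOrbit p).minusSet_eq] at hmem
    obtain ⟨t, ht⟩ := ((A.isOrbit p).mem_minus W.hc).1 hmem
    exact W.exists_xo p ht
  · intro p
    obtain ⟨o, ho⟩ := A.cover (τe.symm (W.b p))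
    have hall : ∀ j ∈ A.orb p, τe.symm j ∈ A.orb o :=
      (A.isOrbit p).trans (fun j => τe.symm j ∈ A.orb o) (fun j hj => by
        show τe.symm (A.S.pi j) ∈ A.orb o
        rw [hτpi']; exact (A.isOrbit o).pi_mem _ hj) (W.b p) (W.hb p) ho
    refine ⟨o, fun d => W.Pm_inf_V1 o ?_ ?_⟩
    · show ((n : GL D.Idx F)⁻¹ * W.xo p d * n) ∈ D.parabolicSubgroup F _
      have hle : ∀ x ∈ rootGen D F {r | ∃ j ∈ A.orb o, (nsroot g j).val = r},
          x ∈ D.parabolicSubgroup F {i : ℕ | ∃ j ∈ A.orb o, (j : ℕ) = i} := by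
        intro x hx
        refine g.rootGen_le (fun r hr hrn t => ?_) hx
        obtain ⟨j, hj, rfl⟩ := hr
        obtain ⟨k, hk⟩ := g.acts_nI (F := F) j (g.sroot j)
        have hn' : g.nI (F := F) j ∈ D.parabolicSubgroup F {i : ℕ | ∃ j ∈ A.orb o, (j : ℕ) = i} :=
          g.nI_mem_parabolic (i := j) ⟨j, hj, rfl⟩
        have hx' := hk (((k⁻¹ : Fˣ) : F) * t)
        rw [g.rperm_sroot, ← mul_assoc, ← Units.val_mul, mul_inv_cancel, Units.val_one, one_mul] at hx'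
        rw [show g.xG (nsroot g j) t = g.nI j * g.xG (g.sroot j) _ * (g.nI j)⁻¹ from hx'.symm]
        exact mul_mem (mul_mem hn' (Subgroup.mem_sup_left (Subgroup.mem_sup_left
          (g.xG_mem_posUnipotent ((g.isPosRoot_iff _).2 ⟨g.sroot_pos j, Fin.isLt _⟩) _))))
          (inv_mem hn')
      refine hle _ ?_
      have := g.conj_rootGen (g.acts_inv hw) (S := {r | ∃ j ∈ A.orb p, (g.sroot j).val = r})
        (T := {r | ∃ j ∈ A.orb o, (nsroot g j).val = r}) ?_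
        (Subgroup.mem_map_of_mem _ (Subgroup.list_prod_mem _ (l := (A.orb p).map fun i =>
          g.xG (g.sroot i) (W.vec p (d : F) i)) fun x hx => ?_))
      · simpa [coe_xo, Good.xList] using this
      · rintro s ⟨j, hj, e⟩
        refine ⟨τe.symm j, hall j hj, ?_⟩
        rw [show s = g.sroot j from Fin.ext e.symm]
        refine congrArg Fin.val (Equiv.Perm.eq_inv_iff_eq.2 ?_)
        rw [hτ]
        exact congrArg g.sroot (τe.apply_symm_apply j)
      · obtain ⟨j, hj, rfl⟩ := List.mem_map.1 hx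
        exact g.mem_rootGen (Fin.isLt _) (show (g.sroot j).val ∈
          {r | ∃ i ∈ A.orb p, (g.sroot i).val = r} from ⟨j, hj, rfl⟩) _
    · exact hn.inv_conj_U1 (W.xo_mem_U1 p d)

/-- A map of the parameters of the orbit groups. -/
structure TwMap (θ : MulAut ↥A.G1) (π : Equiv.Perm (Fin A.r))
    (a b : ∀ o, W.Kf o → W.Kf (π o)) : Prop where
  pos : ∀ o c, θ (W.xo o c) = W.xo (π o) (a o c)
  neg : ∀ o c, θ (W.yo o c) = W.yo (π o) (b o c)

/-- An automorphism fixing `U¹` and `V¹` permutes the orbit groups of both signs. -/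
theorem exists_twMap {θ : MulAut ↥A.G1} (hθ : FixUV A θ) :
    ∃ π a b, W.TwMap θ π a b := by
  obtain ⟨π, hπ⟩ := W.exists_perm hθ
  have hneg : ∀ o c, ∃ u, θ (W.yo o c) = W.yo (π o) u := fun o c =>
    W.Pm_inf_V1 (π o) ((hπ o _).2 (W.yo_mem_Pm o c)) ((hθ.memV _).2 (W.yo_mem_V1 o c))
  obtain ⟨n, hn⟩ := W.exists_isLongest
  have hm1 : ∀ y, θ n * y * (θ n)⁻¹ ∈ V1 A ↔ y ∈ U1 A := fun y => by
    obtain ⟨z, rfl⟩ := θ.surjective y
    rw [← map_inv, ← map_mul, ← map_mul, hθ.memV, hn.conj_mem_V1_iff, hθ.memU]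
  let ψ : MulAut ↥A.G1 := MulAut.conj n⁻¹ * θ * MulAut.conj n
  have hψ' : ∀ x, ψ x = n⁻¹ * (θ n * θ x * (θ n)⁻¹) * n := fun x => by
    show n⁻¹ * θ (n * x * n⁻¹) * n⁻¹⁻¹ = _
    rw [map_mul, map_mul, map_inv, inv_inv]
  have hψ : FixUV A ψ := by
    refine ⟨fun x => ?_, fun x => ?_⟩
    · rw [hψ', hn.inv_conj_mem_U1_iff, hm1, hθ.memU]
    · have h1 : ψ x ∈ V1 A ↔ θ (n * x * n⁻¹) ∈ U1 A := by
        rw [show θ (n * x * n⁻¹) = n * ψ x * n⁻¹ by
          rw [hψ', map_mul, map_mul, map_inv]; group]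
        exact hn.conj_mem_U1_iff.symm
      rw [h1, hθ.memU, hn.conj_mem_U1_iff]
  obtain ⟨π', hπ'⟩ := W.exists_perm hψ
  obtain ⟨hl1, hl2⟩ := W.longest_orbit hn
  have hpos : ∀ p, ∃ p', ∀ d : W.Kf p, ∃ u, θ (W.xo p d) = W.xo p' u := by
    intro p
    obtain ⟨o, ho⟩ := hl2 p
    obtain ⟨p', hp'⟩ := hl1 (π' o)
    refine ⟨p', fun d => ?_⟩
    obtain ⟨c, hc⟩ := ho d
    obtain ⟨u, hu⟩ := W.Pm_inf_V1 (π' o) ((hπ' o _).2 (W.yo_mem_Pm o c))
      ((hψ.memV _).2 (W.yo_mem_V1 o c))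
    obtain ⟨v, hv⟩ := hp' u
    refine ⟨v, ?_⟩
    rw [← hv, ← hu, ← hc, hψ', map_mul, map_mul, map_inv]
    group
  choose π'' hp using hpos
  have hπeq : ∀ p, π'' p = π p := by
    intro p
    by_contra hne
    obtain ⟨u, hu⟩ := hp p 1
    obtain ⟨v, hv⟩ := hneg p (-1)
    refine W.not_commute p ?_
    have h := W.commute_xo_yo hne u v
    rw [← hu, ← hv] at h
    exact θ.injective (by rw [map_mul, map_mul]; exact h.eq)
  choose b hb using hneg
  choose a ha using fun o (c : W.Kf o) => hπeq o ▸ hp o c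
  exact ⟨π, a, b, ha, hb⟩

end TwData

end Params

end CfsgLib.KnownA.TwistOut
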